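import Groth.Agent.GLPLib.Embed
import Groth.Agent.ENComplexLib.Fitt

/-!
# The ideal of the curve as an ideal of maximal minors
-/

set_option autoImplicit false
set_option linter.style.haveILetI false
set_option linter.unusedSectionVars false
set_option maxHeartbeats 1000000
set_option backward.isDefEq.respectTransparency false
set_option backward.isDefEq.respectTransparency.types false
universe u

open CategoryTheory CategoryTheory.Limits AlgebraicGeometry TopologicalSpace Opposite
open DevissLib CurveDualLib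
open GradedCechLib (deh)
open EulerPnLib (mulHomX)
open ENComplexLib (T omega dh prj' entry matHom gen gen_genOn mulHomX_gen isAffineOpen_Dst II)
open AmpleLib (res)
open FunFld WithZero

noncomputable section

namespace GLPLib

attribute [local instance] algFF

/-! ### Matrices of linear forms -/

section Forms

variable {k : Type u} [Field k] {r m n : ℕ} (N : Fin n → Fin m → ↥(CohB1.polyGrading r k 1))

/-- The map `O(-1)^n → O^m` with the given matrix. -/
def phiN : T r k (Fin n) 1 ⟶ FlatMod.freeMod (CohB1.ProjSpace r k) m :=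
  matHom (e := 0) N (by norm_num) ≫
    biproduct.desc fun a : Fin m => (omega r k).inv ≫ Sigma.ι (fun _ : Fin m => Coh.structureModule (CohB1.ProjSpace r k)) a

theorem dh_entry (j : Fin (r + 1)) {V : (CohB1.ProjSpace r k).Opens} (hV : V ≤ QCohLib.stdOpen r k j) (a : Fin m) (b : Fin n) :
    dh j hV (entry (phiN N) a b : MvPolynomial (Fin (r + 1)) k) = dh j hV (N b a : MvPolynomial (Fin (r + 1)) k) := by
  classical
  have h := (ENComplexLib.exists_eq_mulHomX (biproduct.ι (fun _ : Fin n => Twist.twistProjSpace r k (-((1 : ℕ) : ℤ))) b ≫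
    phiN N ≫ prj' a ≫ (omega r k).hom)).choose_spec
  have hd : biproduct.desc (fun c : Fin m => (omega r k).inv ≫
      Sigma.ι (fun _ : Fin m => Coh.structureModule (CohB1.ProjSpace r k)) c) ≫ prj' a ≫ (omega r k).hom =
      biproduct.π (fun _ : Fin m => Twist.twistProjSpace r k (-((0 : ℕ) : ℤ))) a := by
    refine biproduct.hom_ext' _ _ fun c => ?_
    rw [biproduct.ι_desc_assoc, Category.assoc, prj', Sigma.ι_desc_assoc]
    by_cases hc : c = a
    · subst hc; rw [if_pos rfl, biproduct.ι_π_self, Category.id_comp, Iso.inv_hom_id]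
    · rw [if_neg hc, biproduct.ι_π_ne _ hc, zero_comp, comp_zero]
  have e1 : biproduct.ι (fun _ : Fin n => Twist.twistProjSpace r k (-((1 : ℕ) : ℤ))) b ≫
      phiN N ≫ prj' a ≫ (omega r k).hom = mulHomX (N b a) (by norm_num) := by
    rw [phiN, Category.assoc, hd, matHom, biproduct.ι_matrix_assoc, biproduct.lift_π]
  refine (gen_genOn j 0 V hV).1 ?_
  show dh j hV _ • res _ hV (gen j 0) = dh j hV _ • res _ hV (gen j 0)
  have h1 := mulHomX_gen (e := 0) (e' := 1) (entry (phiN N) a b) (by norm_num) j hV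
  have h2 := mulHomX_gen (e := 0) (e' := 1) (N b a) (by norm_num) j hV
  refine h1.symm.trans (Eq.trans ?_ h2)
  exact congr($(h.symm.trans e1).app V (res _ hV (gen j 1)))

theorem ideal_phiN (j : Fin (r + 1)) :
    (Fitt.sheafIdeal (cokernel (phiN N)) 0).ideal ⟨QCohLib.stdOpen r k j, isAffineOpen_Dst j⟩ =
      FittLib.J (Submodule.span Γ(CohB1.ProjSpace r k, QCohLib.stdOpen r k j)
        (Set.range fun b : Fin n => fun a : Fin m => deh r k j (N b a : MvPolynomial (Fin (r + 1)) k)) :
          Set (Fin m → Γ(CohB1.ProjSpace r k, QCohLib.stdOpen r k j))) m := by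
  classical
  have hdh : ∀ p, dh j (le_refl (QCohLib.stdOpen r k j)) p = deh r k j p := fun p => by
    show ((CohB1.ProjSpace r k).presheaf.map (homOfLE _).op) (deh r k j p) = _
    rw [show (homOfLE (le_refl (QCohLib.stdOpen r k j))).op = 𝟙 _ from rfl, CategoryTheory.Functor.map_id]
    rfl
  rw [ENComplexLib.fitt_ideal (phiN N) j ⟨_, isAffineOpen_Dst j⟩ le_rfl, FittLib.J_span]
  let ψ : Fin m → Fin n → Γ(CohB1.ProjSpace r k, QCohLib.stdOpen r k j) := fun a b =>
    dh j (le_refl (QCohLib.stdOpen r k j)) (entry (phiN N) a b : MvPolynomial (Fin (r + 1)) k)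
  have hcol : (Set.range fun b : Fin n => fun a : Fin m => deh r k j (N b a : MvPolynomial (Fin (r + 1)) k)) =
      Set.range fun b => fun a => ψ a b :=
    congrArg Set.range (funext fun b => funext fun a => ((dh_entry N j le_rfl a b).trans (hdh _)).symm)
  rw [hcol, ← ENComplexLib.span_mnr_eq ψ]
  refine congrArg Ideal.span (Set.ext fun y => ⟨?_, ?_⟩)
  · rintro ⟨c, rfl⟩
    exact ⟨⟨c.1.1, by have := (ENComplexLib.mem_idx.mp c.2).1; omega⟩,
      (ENComplexLib.map_mnr (ENComplexLib.pm (entry (phiN N))) (dh j le_rfl) c.1.1).symm⟩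
  · rintro ⟨⟨S, hS⟩, rfl⟩
    exact ⟨⟨(S, 0), ENComplexLib.mem_idx.mpr ⟨by omega, by simp⟩⟩,
      ENComplexLib.map_mnr (ENComplexLib.pm (entry (phiN N))) (dh j le_rfl) S⟩

end Forms

/-! ### Finitely many linear relations -/

theorem exists_linRel_span {k K : Type u} [Field k] [IsAlgClosed k] [Field K] [Algebra k K] {q m : ℕ} (f : Fin q → K) (α : Fin m → K) :
    ∃ (n : ℕ) (N : Fin n → Fin m → MvPolynomial (Fin q) k), (∀ b, N b ∈ linRel f α) ∧
      Submodule.span (MvPolynomial (Fin q) k) (linRel (k := k) f α) =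
        Submodule.span (MvPolynomial (Fin q) k) (Set.range N) := by
  classical
  let W : Submodule k (Fin m → MvPolynomial (Fin q) k) :=
    { carrier := linRel f α
      add_mem' := fun {a b} ha hb => ⟨fun i => (ha.1 i).add (hb.1 i), by
        simp [add_mul, Finset.sum_add_distrib, ha.2, hb.2]⟩
      zero_mem' := ⟨fun _ => MvPolynomial.isHomogeneous_zero _ _ _, by simp⟩
      smul_mem' := fun c a ha => ⟨fun i => Submodule.smul_mem (MvPolynomial.homogeneousSubmodule (Fin q) k 1) c (ha.1 i), by
        simp [Algebra.smul_def, mul_assoc, ← Finset.mul_sum, ha.2]⟩ }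
  haveI : Module.Finite k ↥(MvPolynomial.homogeneousSubmodule (Fin q) k 1) :=
    Module.Finite.iff_fg.mpr (MvPolynomial.homogeneousSubmodule_fg (Fin q) k 1)
  haveI : Module.Finite k W := Module.Finite.of_injective
    (LinearMap.pi fun i => LinearMap.codRestrict (MvPolynomial.homogeneousSubmodule (Fin q) k 1)
      ((LinearMap.proj i).comp W.subtype) fun a => a.2.1 i)
    fun a b h => Subtype.ext (funext fun i => congrArg Subtype.val (congrFun h i))
  obtain ⟨n, s, hs⟩ := Submodule.fg_iff_exists_fin_generating_family.mp (Module.Finite.iff_fg.mp ‹Module.Finite k W›)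
  have hmem : ∀ b, s b ∈ linRel f α := fun b =>
    (show s b ∈ W from hs ▸ Submodule.subset_span ⟨b, rfl⟩)
  refine ⟨n, s, hmem, le_antisymm (Submodule.span_le.mpr fun G hG => ?_)
    (Submodule.span_mono (Set.range_subset_iff.mpr hmem))⟩
  have hG' : G ∈ Submodule.span k (Set.range s) := hs ▸ (show G ∈ W from hG)
  exact Submodule.span_le_restrictScalars k (MvPolynomial (Fin q) k) _ hG'

/-! ### The embedded curve -/

variable {k : Type u} [Field k] [IsAlgClosed k] {r : ℕ} {X : Scheme.{u}} [X.Over (Spec (CommRingCat.of k))]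
  [IsIntegral X] [IsProper (X ↘ (Spec (CommRingCat.of k)))] [Smooth (X ↘ Spec (CommRingCat.of k))]
  {i : X ⟶ CohB1.ProjSpace r k}
  (hi : i ≫ CohB1.ProjSpace.toSpec r k = (X ↘ (Spec (CommRingCat.of k))))
  {f : Fin (r + 1) → X.functionField} {H : Divisor k X.functionField} (E : Emb i f H)

include hi E in
theorem evV_deh (j : Fin (r + 1)) (p : MvPolynomial (Fin (r + 1)) k) :
    evV i (E.mem j) (deh r k j p) = MvPolynomial.aeval (fun a => f a / f j) p := by
  refine congrFun (congrArg DFunLike.coe (MvPolynomial.ringHom_ext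
    (f := (evV i (E.mem j)).comp (deh r k j)) (g := (MvPolynomial.aeval fun a => f a / f j).toRingHom)
    (fun c => ?_) fun a => ?_)) p
  · exact (evV_C i hi j (E.mem j) c).trans (MvPolynomial.aeval_C (fun a => f a / f j) c).symm
  · exact (E.ratio j a).trans (MvPolynomial.aeval_X (fun a => f a / f j) a).symm

theorem aeval_scale {K : Type u} [CommRing K] [Algebra k K] {q : ℕ} (t : K) (g : Fin q → K) :
    ∀ {l : ℕ} {p : MvPolynomial (Fin q) k}, p.IsHomogeneous l →
      MvPolynomial.aeval (fun a => t * g a) p = t ^ l * MvPolynomial.aeval g p := by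
  intro l p hp
  rw [← MvPolynomial.mem_homogeneousSubmodule, ← MvPolynomial.homogeneousSubmodule_one_pow] at hp
  induction l generalizing p with
  | zero =>
    rw [pow_zero, Submodule.mem_one] at hp
    obtain ⟨c, rfl⟩ := hp
    simp
  | succ l ih =>
    rw [pow_succ'] at hp
    refine Submodule.mul_induction_on hp (fun x hx y hy => ?_) fun x y hx hy => by rw [map_add, map_add, hx, hy, mul_add]
    rw [MvPolynomial.homogeneousSubmodule_one_eq_span_X, Submodule.mem_span_range_iff_exists_fun] at hx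
    obtain ⟨c, rfl⟩ := hx
    have e : MvPolynomial.aeval (fun a => t * g a) (∑ b, c b • (MvPolynomial.X b : MvPolynomial (Fin q) k)) =
        t * MvPolynomial.aeval g (∑ b, c b • (MvPolynomial.X b : MvPolynomial (Fin q) k)) := by
      simp only [map_sum, map_smul, MvPolynomial.aeval_X, Finset.mul_sum, mul_smul_comm]
    rw [map_mul, map_mul, ih hy, e, pow_succ']
    ring

variable {m n : ℕ} {α : Fin m → X.functionField} (hP1 : P1 (k := k) f α)
  {N : Fin n → Fin m → MvPolynomial (Fin (r + 1)) k} (hN : ∀ b, N b ∈ linRel f α)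
  (hspan : Submodule.span (MvPolynomial (Fin (r + 1)) k) (linRel (k := k) f α) =
    Submodule.span (MvPolynomial (Fin (r + 1)) k) (Set.range N))

include hi E hP1 hN hspan in
theorem relMod_eq (j : Fin (r + 1)) :
    relMod (evV i (E.mem j)) α = Submodule.span Γ(CohB1.ProjSpace r k, QCohLib.stdOpen r k j)
      (Set.range fun b : Fin n => fun a : Fin m => deh r k j (N b a)) := by
  classical
  have hscale : ∀ {l : ℕ} {p : MvPolynomial (Fin (r + 1)) k}, p.IsHomogeneous l →
      evV i (E.mem j) (deh r k j p) = (f j)⁻¹ ^ l * MvPolynomial.aeval f p := fun {l p} hp => by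
    rw [evV_deh hi E j p, show (fun a => f a / f j) = fun a => (f j)⁻¹ * f a from funext fun a => by ring,
      aeval_scale _ _ hp]
  refine le_antisymm (fun c hc => ?_) (Submodule.span_le.mpr ?_)
  · choose Q hQ using fun a => GradedCechLib.deh_surjective r k j (c a)
    let l := Finset.univ.sup fun a => (Q a).totalDegree
    let G : Fin m → MvPolynomial (Fin (r + 1)) k := fun a =>
      ∑ d ∈ Finset.range (l + 1), MvPolynomial.X j ^ (l - d) * MvPolynomial.homogeneousComponent d (Q a)
    have hG : ∀ a, (G a).IsHomogeneous l := fun a => MvPolynomial.IsHomogeneous.sum _ _ _ fun d hd => by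
      have := ((MvPolynomial.isHomogeneous_X_pow j (l - d)).mul
        (MvPolynomial.homogeneousComponent_isHomogeneous d (Q a)) : MvPolynomial.IsHomogeneous
          (MvPolynomial.X j ^ (l - d) * MvPolynomial.homogeneousComponent d (Q a)) _)
      rwa [Nat.sub_add_cancel (Nat.lt_succ_iff.mp (Finset.mem_range.mp hd))] at this
    have hGc : ∀ a, deh r k j (G a) = c a := fun a => by
      simp only [G, map_sum, map_mul, map_pow, GradedCechLib.deh_X_self, one_pow, one_mul]
      rw [← map_sum, ← hQ a]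
      congr 1
      conv_rhs => rw [← MvPolynomial.sum_homogeneousComponent (Q a)]
      refine (Finset.sum_subset (Finset.range_subset_range.mpr ?_) fun d _ hd =>
        MvPolynomial.homogeneousComponent_eq_zero _ _ (by simpa using hd)).symm
      have : (Q a).totalDegree ≤ l := Finset.le_sup (f := fun a => (Q a).totalDegree) (Finset.mem_univ a)
      omega
    have hsum : ∑ a, MvPolynomial.aeval f (G a) * α a = 0 := by
      have h1 : (f j)⁻¹ ^ l * ∑ a, MvPolynomial.aeval f (G a) * α a = 0 := by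
        rw [Finset.mul_sum]
        refine Eq.trans (Finset.sum_congr rfl fun a _ => ?_) hc
        rw [← mul_assoc, ← hscale (hG a), hGc a]
      exact (mul_eq_zero.mp h1).resolve_left (pow_ne_zero _ (inv_ne_zero (E.ne j)))
    have h2 := hP1 l G hG hsum
    rw [hspan, Submodule.mem_span_range_iff_exists_fun] at h2
    obtain ⟨p, hp⟩ := h2
    rw [Submodule.mem_span_range_iff_exists_fun]
    refine ⟨fun b => deh r k j (p b), funext fun a => ?_⟩
    rw [← hGc a, ← congrFun hp a]
    simp [Finset.sum_apply, map_sum, map_mul]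
  · rintro _ ⟨b, rfl⟩
    show ∑ a, evV i (E.mem j) (deh r k j (N b a)) * α a = 0
    refine Eq.trans (Eq.trans ?_ (Finset.mul_sum _ _ ((f j)⁻¹ ^ 1)).symm) ((congrArg ((f j)⁻¹ ^ 1 * ·) (hN b).2).trans (mul_zero _))
    exact Finset.sum_congr rfl fun a _ => by rw [hscale ((hN b).1 a), mul_assoc]

variable (k) in
include k in
theorem exists_max (hdim : topologicalKrullDim X = 1) {a₀ : Fin m} (hα : α a₀ ≠ 0) (x : X) :
    ∃ i₀, α i₀ ≠ 0 ∧ ∀ a, ∃ b : X.presheaf.stalk x, toFF x b = α a / α i₀ := by
  classical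
  by_cases hx : x = genericPoint X
  · subst hx
    refine ⟨a₀, hα, fun a => ⟨α a / α a₀, ?_⟩⟩
    have e : (X.presheaf.stalkSpecializes ((genericPoint_spec X).specializes trivial) :
        X.presheaf.stalk (genericPoint X) ⟶ X.presheaf.stalk (genericPoint X)) = 𝟙 _ :=
      TopCat.Presheaf.stalkSpecializes_refl X.presheaf (genericPoint X)
    exact congrArg (fun φ => φ (α a / α a₀)) e
  have hx' := isClosed_of_ne_generic (k := k) hdim hx
  obtain ⟨i₀, -, hmax⟩ := Finset.exists_max_image Finset.univ (fun a => ptVal (k := k) hdim hx' (α a))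
    ⟨a₀, Finset.mem_univ a₀⟩
  have h0 : α i₀ ≠ 0 := fun h => by
    have := hmax a₀ (Finset.mem_univ a₀)
    rw [h, map_zero] at this
    exact hα ((map_eq_zero _).mp (le_antisymm this zero_le))
  refine ⟨i₀, h0, fun a => (ptVal_le_one_iff (k := k) hdim hx' _).mp ?_⟩
  rw [map_div₀]
  exact div_le_one_of_le₀ (hmax a (Finset.mem_univ a)) zero_le

variable [IsClosedImmersion i]

include E in
theorem locally_principal (hdim : topologicalKrullDim X = 1) (j : Fin (r + 1)) {a₀ : Fin m} (hα : α a₀ ≠ 0)
    (p : Ideal Γ(CohB1.ProjSpace r k, QCohLib.stdOpen r k j)) (hp : p.IsMaximal)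
    (hker : RingHom.ker (evV i (E.mem j)) ≤ p) :
    ∃ i₀, ∀ a, ∃ s t, s ∉ p ∧ evV i (E.mem j) s * α a = evV i (E.mem j) t * α i₀ := by
  classical
  have hU := isAffineOpen_Dst (k := k) j
  let y : CohB1.ProjSpace r k := hU.fromSpec ⟨p, hp.isPrime⟩
  have hy : y ∈ QCohLib.stdOpen r k j := by
    show y ∈ ((QCohLib.stdOpen r k j : (CohB1.ProjSpace r k).Opens) : Set (CohB1.ProjSpace r k))
    rw [← hU.range_fromSpec]; exact ⟨_, rfl⟩
  obtain ⟨x, hxy⟩ : y ∈ Set.range i := by
    have hsupp : y ∈ i.ker.support := by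
      refine (Scheme.IdealSheafData.mem_support_iff_of_mem (U := ⟨_, hU⟩) hy).mpr ?_
      rw [Scheme.mem_zeroLocus_iff]
      intro s hs hmem
      rw [SetLike.mem_coe, Scheme.Hom.ker_apply, RingHom.mem_ker] at hs
      have hsp : s ∈ p := hker (by
        rw [RingHom.mem_ker]
        show X.presheaf.germ _ _ (E.mem j) (i.app _ s) = 0
        rw [hs, map_zero])
      have h1 : (⟨p, hp.isPrime⟩ : PrimeSpectrum Γ(CohB1.ProjSpace r k, QCohLib.stdOpen r k j)) ∈
          hU.fromSpec ⁻¹ᵁ (CohB1.ProjSpace r k).basicOpen s := hmem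
      rw [hU.fromSpec_preimage_basicOpen] at h1
      exact h1 hsp
    have h2 : y ∈ (i.ker.support : Set (CohB1.ProjSpace r k)) := hsupp
    rw [Scheme.Hom.support_ker, i.isClosedEmbedding.isClosed_range.closure_eq] at h2
    exact h2
  have hxD : i x ∈ QCohLib.stdOpen r k j := hxy ▸ hy
  have hprime : hU.primeIdealOf ⟨i x, hxD⟩ = ⟨p, hp.isPrime⟩ :=
    hU.fromSpec.isOpenEmbedding.injective ((hU.fromSpec_primeIdealOf ⟨i x, hxD⟩).trans hxy)
  obtain ⟨i₀, hi₀, hb⟩ := exists_max k hdim hα x
  refine ⟨i₀, fun a => ?_⟩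
  obtain ⟨b, hb⟩ := hb a
  obtain ⟨c, rfl⟩ := i.stalkMap_surjective x b
  letI := (CohB1.ProjSpace r k).presheaf.algebra_section_stalk (⟨i x, hxD⟩ : QCohLib.stdOpen r k j)
  haveI := hU.isLocalization_stalk ⟨i x, hxD⟩
  obtain ⟨⟨t, s⟩, hts⟩ := IsLocalization.surj (hU.primeIdealOf ⟨i x, hxD⟩).asIdeal.primeCompl c
  refine ⟨s, t, ?_, ?_⟩
  · intro h
    refine Ideal.mem_primeCompl_iff.mp s.2 ?_
    exact (congrArg (fun q : PrimeSpectrum _ => (s : Γ(CohB1.ProjSpace r k, QCohLib.stdOpen r k j)) ∈ q.asIdeal) hprime).mpr h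
  · have hev : ∀ u : Γ(CohB1.ProjSpace r k, QCohLib.stdOpen r k j),
        toFF x (i.stalkMap x ((CohB1.ProjSpace r k).presheaf.germ _ (i x) hxD u)) = evV i (E.mem j) u := fun u => by
      rw [Scheme.Hom.germ_stalkMap_apply]
      exact toFF_germ (X := X) (U := i ⁻¹ᵁ QCohLib.stdOpen r k j) hxD _
    have h2 := congrArg (fun z => toFF x (i.stalkMap x z)) hts
    simp only [map_mul] at h2
    rw [hb] at h2
    rw [← hev, ← hev]
    refine Eq.trans ?_ (congrArg (· * α i₀) h2)
    rw [mul_right_comm, div_mul_cancel₀ _ hi₀, mul_comm]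
    rfl

end GLPLib
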