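import Groth.Agent.FittLib.Minors
import Mathlib.LinearAlgebra.Matrix.ToLinearEquiv
import Mathlib.RingTheory.Ideal.Maximal

/-!
# Maximal minors of the relations of a locally principal fractional module
-/

set_option autoImplicit false
set_option linter.unusedSectionVars false
set_option maxHeartbeats 1000000
universe u v

noncomputable section

namespace GLPLib

variable {A : Type u} [CommRing A] {K : Type v} [Field K] (e : A →+* K) {m : ℕ} (α : Fin m → K)

/-- The relations between the `α i` over `A`. -/
def relMod : Submodule A (Fin m → A) where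
  carrier := {c | ∑ i, e (c i) * α i = 0}
  add_mem' {a b} ha hb := by
    simp only [Set.mem_ofPred_eq] at ha hb ⊢
    simp [add_mul, Finset.sum_add_distrib, ha, hb]
  zero_mem' := by simp
  smul_mem' r c hc := by
    simp only [Set.mem_ofPred_eq] at hc ⊢
    simp [mul_assoc, ← Finset.mul_sum, hc]

theorem mem_relMod {c : Fin m → A} : c ∈ relMod e α ↔ ∑ i, e (c i) * α i = 0 := Iff.rfl

theorem minor_mem_ker {i₀ : Fin m} (hα : α i₀ ≠ 0) {z : Fin m → Fin m → A} (σ : Fin m → Fin m)
    (hz : ∀ b, z b ∈ relMod e α) : e (FittLib.minor z σ) = 0 := by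
  classical
  by_cases hσ : Function.Injective σ
  · have hb : Function.Bijective σ := Finite.injective_iff_bijective.mp hσ
    rw [FittLib.minor, RingHom.map_det]
    refine (Matrix.exists_vecMul_eq_zero_iff).mp ⟨fun a => α (σ a), fun h => hα ?_, funext fun b => ?_⟩
    · obtain ⟨a, ha⟩ := hb.2 i₀
      rw [← ha]
      exact congrFun h a
    · show ∑ a, α (σ a) * e (z b (σ a)) = 0
      rw [hb.sum_comp fun a => α a * e (z b a)]
      refine Eq.trans (Finset.sum_congr rfl fun a _ => mul_comm _ _) (hz b)
  · rw [FittLib.minor_eq_zero_of_not_injective z hσ, map_zero]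

/-- The maximal minors of the relations generate the kernel, provided the module is locally principal. -/
theorem J_relMod_eq_ker {j₀ : Fin m} (hα : α j₀ ≠ 0)
    (hloc : ∀ p : Ideal A, p.IsMaximal → RingHom.ker e ≤ p →
      ∃ i₀, ∀ i, ∃ s a : A, s ∉ p ∧ e s * α i = e a * α i₀) :
    FittLib.J (relMod e α : Set (Fin m → A)) m = RingHom.ker e := by
  classical
  refine le_antisymm (FittLib.J_le_iff.mpr fun z σ hz => minor_mem_ker e α hα σ hz) fun c hc => ?_
  rw [RingHom.mem_ker] at hc
  set J := FittLib.J (relMod e α : Set (Fin m → A)) m with hJ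
  let N : Ideal A := Submodule.colon J {c}
  suffices h : N = ⊤ by
    have := (Ideal.eq_top_iff_one _).mp h
    rw [Submodule.mem_colon_singleton] at this
    simpa using this
  by_contra hN
  obtain ⟨p, hp, hNp⟩ := Ideal.exists_le_maximal N hN
  suffices h : ∃ t ∉ p, t * c ∈ J by
    obtain ⟨t, ht, htc⟩ := h
    exact ht (hNp (Submodule.mem_colon_singleton.mpr (by simpa using htc)))
  by_cases hker : RingHom.ker e ≤ p
  · obtain ⟨i₀, h₀⟩ := hloc p hp hker
    choose s a hs ha using h₀
    let z : Fin m → Fin m → A := fun i =>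
      if i = i₀ then Pi.single i₀ c else Pi.single i (s i) - Pi.single i₀ (a i)
    have hmem : ∀ i, z i ∈ relMod e α := fun i => by
      rw [mem_relMod]
      by_cases hi : i = i₀
      · simp [z, hi, Pi.single_apply, apply_ite e, hc]
      · simp [z, hi, Pi.single_apply, apply_ite e, sub_mul, ite_mul, Finset.sum_sub_distrib, ha i]
    have hdet : FittLib.minor z id = c * ∏ i ∈ Finset.univ.erase i₀, s i := by
      rw [FittLib.minor, Matrix.det_apply']
      rw [Finset.sum_eq_single (1 : Equiv.Perm (Fin m))]
      · rw [Equiv.Perm.sign_one, Units.val_one, Int.cast_one, one_mul,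
          ← Finset.mul_prod_erase Finset.univ _ (Finset.mem_univ i₀)]
        refine congrArg₂ (· * ·) (by simp [z]) (Finset.prod_congr rfl fun i hi => ?_)
        have hi' := Finset.ne_of_mem_erase hi
        simp [z, hi']
      · intro π _ hπ
        obtain ⟨b, hb, hb'⟩ : ∃ b, π b ≠ b ∧ π b ≠ i₀ := by
          obtain ⟨b, hb⟩ : ∃ b, π b ≠ b := by
            by_contra h
            push Not at h
            exact hπ (Equiv.ext h)
          by_cases h' : π b = i₀
          · exact ⟨π b, fun h'' => hb (π.injective h''), fun h'' => hb (π.injective (h''.trans h'.symm))⟩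
          · exact ⟨b, hb, h'⟩
        refine mul_eq_zero_of_right _ (Finset.prod_eq_zero (Finset.mem_univ b) ?_)
        by_cases hbi : b = i₀
        · rw [hbi] at hb' ⊢; simp [z, Pi.single_eq_of_ne hb']
        · simp [z, hbi, Pi.single_eq_of_ne hb', Pi.single_eq_of_ne hb]
      · simp
    refine ⟨∏ i ∈ Finset.univ.erase i₀, s i, fun h => ?_, ?_⟩
    · obtain ⟨i, -, hi⟩ := (hp.isPrime.prod_mem_iff).mp h
      exact hs i hi
    · rw [mul_comm, ← hdet]
      exact FittLib.minor_mem id hmem
  · obtain ⟨c', hc', hc'p⟩ := SetLike.not_le_iff_exists.mp hker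
    refine ⟨c' ^ m, fun h => hc'p (hp.isPrime.mem_of_pow_mem m h), Ideal.mul_mem_right _ _ ?_⟩
    have hdet : FittLib.minor (fun i : Fin m => (Pi.single i c' : Fin m → A)) id = c' ^ m := by
      rw [FittLib.minor, show (Matrix.of fun a b => (Pi.single b c' : Fin m → A) (id a)) = Matrix.diagonal (fun _ => c') from ?_,
        Matrix.det_diagonal, Finset.prod_const, Finset.card_univ, Fintype.card_fin]
      ext a b
      by_cases h : a = b
      · subst h; simp
      · simp [h]
    rw [← hdet]
    refine FittLib.minor_mem id fun i => (mem_relMod e α).mpr ?_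
    simp [Pi.single_apply, apply_ite e, RingHom.mem_ker.mp hc']

end GLPLib
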