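import Groth.Agent.GLPLib.Graded
import Groth.Agent.GLPLib.Fitting
import Groth.Agent.CurveDualLib.Deg
import Groth.Agent.CurveDualLib.Canon
import Groth.Agent.ZetaCurveLib.Pic
import Groth.Agent.CurveH0Lib.Smooth
import Groth.Agent.ProjSecLib.Gamma
import Groth.Agent.TwistLib.CoordGen
import Groth.Agent.TwistLib.PtApp
import Groth.Agent.EulerPnLib.Deriv

/-!
# The function field picture of an embedded curve
-/

set_option autoImplicit false
set_option linter.style.haveILetI false
set_option linter.unusedSectionVars false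
set_option maxHeartbeats 1000000
set_option backward.isDefEq.respectTransparency false
set_option backward.isDefEq.respectTransparency.types false
universe u

open CategoryTheory CategoryTheory.Limits AlgebraicGeometry TopologicalSpace Opposite
open DevissLib CurveDualLib
open GradedCechLib (deh)
open AmpleLib (res)
open FunFld WithZero

noncomputable section

namespace GLPLib

attribute [local instance] algFF

variable {k : Type u} [Field k] [IsAlgClosed k] {r : ℕ} {X : Scheme.{u}} [X.Over (Spec (CommRingCat.of k))]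
  [IsIntegral X] [IsProper (X ↘ (Spec (CommRingCat.of k)))] [Smooth (X ↘ Spec (CommRingCat.of k))]
  (i : X ⟶ CohB1.ProjSpace r k)
  (hi : i ≫ CohB1.ProjSpace.toSpec r k = (X ↘ (Spec (CommRingCat.of k))))

/-- Functions near the image of the generic point as rational functions. -/
def evV {V : (CohB1.ProjSpace r k).Opens} (hV : i (genericPoint X) ∈ V) :
    Γ(CohB1.ProjSpace r k, V) →+* X.functionField :=
  (X.presheaf.germ (i ⁻¹ᵁ V) (genericPoint X) hV).hom.comp (i.app V).hom

theorem evV_res {V W : (CohB1.ProjSpace r k).Opens} (h : W ≤ V) (hW : i (genericPoint X) ∈ W)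
    (s : Γ(CohB1.ProjSpace r k, V)) :
    evV i hW ((CohB1.ProjSpace r k).presheaf.map (homOfLE h).op s) = evV i (h hW) s := by
  show X.presheaf.germ _ _ hW (i.app W ((CohB1.ProjSpace r k).presheaf.map (homOfLE h).op s)) = _
  refine (congrArg (fun z => X.presheaf.germ _ _ hW z) (ConcreteCategory.congr_hom (i.naturality (homOfLE h).op) s)).trans ?_
  exact TopCat.Presheaf.germ_res_apply X.presheaf _ _ hW _

include hi in
theorem evV_C (j : Fin (r + 1)) (hj : i (genericPoint X) ∈ QCohLib.stdOpen r k j) (c : k) :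
    evV i hj (deh r k j (MvPolynomial.C c)) = algebraMap k X.functionField c := by
  rw [GradedCechLib.deh_C]
  refine (evV_res i le_top hj _).trans ?_
  show X.presheaf.germ ⊤ (genericPoint X) trivial (i.app ⊤ (Coh.toGlobal (CohB1.ProjSpace.toSpec r k) c)) = _
  have : i.app ⊤ (Coh.toGlobal (CohB1.ProjSpace.toSpec r k) c) = Coh.toGlobal (X ↘ Spec (CommRingCat.of k)) c := by
    rw [← hi]; rfl
  rw [this]
  rfl

/-- The coordinate sections. -/
def gX (a : Fin (r + 1)) : Γ(Twist.twistProjSpace r k 1, (⊤ : (CohB1.ProjSpace r k).Opens)) :=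
  Twist.globalOf (CohB1.polyGrading r k) (i := 1) ⟨MvPolynomial.X a, ProjSecLib.X_mem a⟩

theorem res_gX (j a : Fin (r + 1)) :
    res (Twist.twistProjSpace r k 1) (le_top : QCohLib.stdOpen r k j ≤ ⊤) (gX (k := k) a) =
      deh r k j (MvPolynomial.X a) • res (Twist.twistProjSpace r k 1) (le_top : QCohLib.stdOpen r k j ≤ ⊤) (gX j) := by
  refine TwistLib.sec_ext fun x => ?_
  refine Eq.trans ?_ (EulerPnLib.val_smul' (𝒜 := CohB1.polyGrading r k) _ _ x).symm
  rw [EulerPnLib.ev_deh r k j (MvPolynomial.isHomogeneous_X k a)]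
  show Localization.mk (MvPolynomial.X a : MvPolynomial (Fin (r + 1)) k) _ =
    _ * Localization.mk (MvPolynomial.X j : MvPolynomial (Fin (r + 1)) k) _
  rw [Localization.mk_mul, Localization.mk_eq_mk_iff, Localization.r_iff_exists]
  refine ⟨1, ?_⟩
  simp only [OneMemClass.coe_one, Submonoid.coe_mul, one_mul, mul_one, pow_one]
  ring

/-- The pulled back coordinate sections. -/
def wX (a : Fin (r + 1)) : Γ((Scheme.Modules.pullback i).obj (Twist.twistProjSpace r k 1), (⊤ : X.Opens)) :=
  KFlatLib.puSec i (gX a)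

/-- Their values at the generic point. -/
def GX (a : Fin (r + 1)) : Gst ((Scheme.Modules.pullback i).obj (Twist.twistProjSpace r k 1)) :=
  gm _ (genericPoint X) (show genericPoint X ∈ (⊤ : X.Opens) from trivial) (wX i a)

theorem GX_eq (j a : Fin (r + 1)) (hj : i (genericPoint X) ∈ QCohLib.stdOpen r k j) :
    GX i a = ((evV i hj (deh r k j (MvPolynomial.X a)) : X.functionField) :
      X.presheaf.stalk (genericPoint X)) • GX i j := by
  let L := (Scheme.Modules.pullback i).obj (Twist.twistProjSpace r k 1)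
  have h1 : ∀ b, gm L (genericPoint X) (show genericPoint X ∈ i ⁻¹ᵁ QCohLib.stdOpen r k j from hj)
      (KFlatLib.puSec i (res (Twist.twistProjSpace r k 1) (le_top : QCohLib.stdOpen r k j ≤ ⊤) (gX (k := k) b))) = GX i b :=
    fun b => (congrArg (gm L _ _) (TwistLib.puSec_res i le_top (gX b))).trans
      (gm_map L (i.preimage_mono (le_top : QCohLib.stdOpen r k j ≤ ⊤)) (genericPoint X) hj (KFlatLib.puSec i (gX b)))
  rw [← h1 a, res_gX, TwistLib.puSec_smul, gm_smul, h1]
  rfl

theorem isGen_wX {j : Fin (r + 1)} {x : X} (hx : i x ∈ QCohLib.stdOpen r k j) :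
    IsGen ((Scheme.Modules.pullback i).obj (Twist.twistProjSpace r k 1)) x
      (gm _ x (show x ∈ (⊤ : X.Opens) from trivial) (wX i j)) := by
  let L := (Scheme.Modules.pullback i).obj (Twist.twistProjSpace r k 1)
  have h := TwistLib.GenAt.puSec i (hx := hx)
    ((TwistLib.globalOf_genOn (CohB1.polyGrading r k) (ProjSecLib.X_mem j)).genAt hx)
  have e : gm L x (show x ∈ i ⁻¹ᵁ QCohLib.stdOpen r k j from hx)
      (KFlatLib.puSec i (res (Twist.twistProjSpace r k 1) (le_top : QCohLib.stdOpen r k j ≤ ⊤) (gX (k := k) j))) =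
      gm L x (show x ∈ (⊤ : X.Opens) from trivial) (wX i j) :=
    (congrArg (gm L _ _) (TwistLib.puSec_res i le_top (gX j))).trans
      (gm_map L (i.preimage_mono (le_top : QCohLib.stdOpen r k j ≤ ⊤)) x hx (KFlatLib.puSec i (gX j)))
  rw [← e]
  exact h

/-- The data of the embedding. -/
structure Emb (f : Fin (r + 1) → X.functionField) (H : Divisor k X.functionField) : Prop where
  mem : ∀ j, i (genericPoint X) ∈ QCohLib.stdOpen r k j
  ne : ∀ j, f j ≠ 0
  ratio : ∀ j a, evV i (mem j) (deh r k j (MvPolynomial.X a)) = f a / f j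
  li : LinearIndependent k f
  bpf : BPF f H
  deg : Curv2.deg k X ((Scheme.Modules.pullback i).obj (Twist.twistProjSpace r k 1)) 1 = H.deg

variable (hdim : topologicalKrullDim X = 1)
  (hplane : ∀ s : LinSer.Sect (CohB1.ProjSpace r k) (Twist.twistProjSpace r k 1), s ≠ 0 →
    OmegaSh.pullSect i (Twist.twistProjSpace r k 1) ⊤ s ≠ 0)

include hi hplane in
theorem li_coord {σ : Gst ((Scheme.Modules.pullback i).obj (Twist.twistProjSpace r k 1))}
    (f : Fin (r + 1) → X.functionField)
    (hf : ∀ a, GX i a = ((f a : X.functionField) : X.presheaf.stalk (genericPoint X)) • σ) :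
    LinearIndependent k f := by
  classical
  let 𝒜 := CohB1.polyGrading r k
  let O1 := Twist.twistProjSpace r k 1
  let L := (Scheme.Modules.pullback i).obj O1
  have hL : PicF.IsInvertible L := TwistLib.coord_isInvertible r k i
  let g : 𝒜 1 → Γ(O1, ⊤) := fun a => Twist.globalOf 𝒜 a
  have hadd : ∀ a b, g (a + b) = g a + g b := fun a b => TwistLib.sec_ext fun x => by
    show Localization.mk ((a : MvPolynomial (Fin (r + 1)) k) + b) _ = Localization.mk _ _ + Localization.mk _ _
    rw [Localization.add_mk_self]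
  let gh : 𝒜 1 →+ Γ(O1, ⊤) := AddMonoidHom.mk' g hadd
  rw [Fintype.linearIndependent_iff]
  intro c hc
  let a : 𝒜 1 := ∑ j, c j • ⟨MvPolynomial.X j, ProjSecLib.X_mem j⟩
  let pu : Γ(O1, ⊤) →+ Γ(L, ⊤) := (OmegaSh.pullSect i O1 ⊤).hom
  let gη : Γ(L, ⊤) →+ Gst L := (L.presheaf.germ ⊤ (genericPoint X) trivial).hom
  have hsm : ∀ (c : k) (b : Fin (r + 1)), gη (pu (gh (c • ⟨MvPolynomial.X b, ProjSecLib.X_mem b⟩))) =
      ((c • f b : X.functionField) : X.presheaf.stalk (genericPoint X)) • σ := fun c b => by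
    have h1 : g (c • ⟨MvPolynomial.X b, ProjSecLib.X_mem b⟩) =
        (show Γ(CohB1.ProjSpace r k, ⊤) from Coh.toGlobal (CohB1.ProjSpace.toSpec r k) c) • gX b :=
      ProjSecLib.globalOf_smul c _
    refine (congrArg (fun s => gm L (genericPoint X) (show genericPoint X ∈ (⊤ : X.Opens) from trivial) (KFlatLib.puSec i s)) h1).trans ?_
    refine ((congrArg (gm L (genericPoint X) (show genericPoint X ∈ i ⁻¹ᵁ ⊤ from trivial))
      (TwistLib.puSec_smul i (Coh.toGlobal (CohB1.ProjSpace.toSpec r k) c) (gX b))).trans (gm_smul _ _ _ _ _)).trans ?_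
    refine (congrArg (fun z => (X.presheaf.germ ⊤ (genericPoint X) trivial (i.app ⊤ (Coh.toGlobal (CohB1.ProjSpace.toSpec r k) c))) • z)
      (hf b)).trans ?_
    rw [smul_smul, Algebra.smul_def]
    congr 2
    rw [show i.app ⊤ (Coh.toGlobal (CohB1.ProjSpace.toSpec r k) c) = Coh.toGlobal (X ↘ Spec (CommRingCat.of k)) c by
      rw [← hi]; rfl]
    rfl
  have h1 : gη (pu (gh a)) = 0 := by
    rw [map_sum, map_sum, map_sum, Finset.sum_congr rfl fun j _ => hsm (c j) j, ← Finset.sum_smul]
    refine Eq.trans ?_ (zero_smul (X.presheaf.stalk (genericPoint X)) σ)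
    exact congrArg (fun z : X.presheaf.stalk (genericPoint X) => z • σ) hc
  have h2 : gh a = 0 := by
    by_contra hne
    exact hplane (gh a) hne (section_ext hL (U := ⊤) (pu (gh a)) 0 trivial (h1.trans (map_zero gη).symm))
  have h3 : a = 0 := ProjSecLib.globalOf_injective (h2.trans (map_zero gh).symm)
  intro j
  have h4 := congrArg (fun t : 𝒜 1 => MvPolynomial.coeff (Finsupp.single j 1) (t : MvPolynomial (Fin (r + 1)) k)) h3
  simpa [a, MvPolynomial.coeff_sum, MvPolynomial.coeff_X, Finsupp.single_eq_single_iff] using h4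

include hi hplane hdim in
theorem exists_emb : ∃ f H, Emb i f H := by
  classical
  let L := (Scheme.Modules.pullback i).obj (Twist.twistProjSpace r k 1)
  have hL : PicF.IsInvertible L := TwistLib.coord_isInvertible r k i
  obtain ⟨j0, hj0⟩ := ProjSecLib.cover (R := k) (n := r) (i (genericPoint X))
  have hσ : IsGen L (genericPoint X) (GX i j0) := isGen_wX i hj0
  let f : Fin (r + 1) → X.functionField := fun a => evV i hj0 (deh r k j0 (MvPolynomial.X a))
  have hf : ∀ a, GX i a = ((f a : X.functionField) : X.presheaf.stalk (genericPoint X)) • GX i j0 := fun a => GX_eq i j0 a hj0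
  have hli := li_coord i hi hplane f hf
  have hne : ∀ j, f j ≠ 0 := hli.ne_zero
  have hmem : ∀ j, i (genericPoint X) ∈ QCohLib.stdOpen r k j := fun j => by
    have h : genericPoint X ∈ X.basicOpen (i.app _ (deh r k j0 (MvPolynomial.X j))) :=
      (Scheme.mem_basicOpen X _ _ hj0).mpr (Ne.isUnit (G₀ := X.functionField) (hne j))
    rw [← Scheme.preimage_basicOpen, GradedCechLib.basicOpen_deh_X] at h
    exact h.2
  have hratio : ∀ j a, evV i (hmem j) (deh r k j (MvPolynomial.X a)) = f a / f j := fun j a => by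
    rw [eq_div_iff (hne j)]
    have := GX_eq i j a (hmem j)
    rw [hf a, hf j, smul_smul] at this
    exact (hσ.1 this).symm
  obtain ⟨H, hH⟩ := exists_isDiv (k := k) hdim hL hσ
  have key : ∀ (x : X) (hx : IsClosed ({x} : Set X)) (j : Fin (r + 1)) (_ : i x ∈ QCohLib.stdOpen r k j),
      (ptPlace (k := k) hdim hx).ord (f j) = -H (ptPlace hdim hx) := fun x hx j hxj => by
    have h1 := IsDiv.spec hdim hL hH hx (isGen_wX i hxj) (inv_ne_zero (hne j)) (by
      rw [sp_gm]
      show GX i j0 = _ • GX i j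
      rw [hf j, smul_smul]
      exact ((congrArg (fun z : X.presheaf.stalk (genericPoint X) => z • GX i j0) (inv_mul_cancel₀ (hne j))).trans
        (one_smul _ _)).symm)
    rw [Groth.Agent.FFLib.ord_inv] at h1
    omega
  refine ⟨f, H, hmem, hne, hratio, hli, ⟨fun a P => ?_, fun P => ?_⟩, ?_⟩
  · obtain ⟨x, hx, rfl⟩ := exists_point (k := k) hdim P
    obtain ⟨j, hxj⟩ := ProjSecLib.cover (R := k) (n := r) (i x)
    have h1 : (ptPlace (k := k) hdim hx).1 (f a / f j) ≤ 1 := by
      rw [← hratio j a, ptPlace_val, ptVal_le_one_iff]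
      exact ⟨X.presheaf.germ (i ⁻¹ᵁ QCohLib.stdOpen r k j) x hxj (i.app _ (deh r k j (MvPolynomial.X a))),
        toFF_germ (X := X) (U := i ⁻¹ᵁ QCohLib.stdOpen r k j) hxj _⟩
    rw [map_div₀, Groth.Agent.FFLib.v_eq _ (hne j), key x hx j hxj, neg_neg, div_le_one₀ exp_pos] at h1
    exact h1
  · obtain ⟨x, hx, rfl⟩ := exists_point (k := k) hdim P
    obtain ⟨j, hxj⟩ := ProjSecLib.cover (R := k) (n := r) (i x)
    refine ⟨j, fun h => ?_⟩
    have := (Groth.Agent.FFLib.mem_L_iff (hne j)).mp h (ptPlace hdim hx)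
    rw [key x hx j hxj, Finsupp.sub_apply, Finsupp.single_eq_same] at this
    omega
  · exact deg_eq_deg hdim hL hσ hH

end GLPLib
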