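import Groth.Agent.GLPLib.Tower
import Mathlib.RingTheory.MvPolynomial.Homogeneous

/-!
# A linear presentation of the graded module of a nonspecial line bundle
-/

set_option autoImplicit false
set_option linter.unusedSectionVars false
set_option maxHeartbeats 1000000
universe u

open WithZero Module FunFld
open Groth.Agent.FFLib

noncomputable section

namespace GLPLib

variable {k K : Type u} [Field k] [IsAlgClosed k] [Field K] [Algebra k K]
variable {n m : ℕ} (f : Fin n → K) (α : Fin m → K)

/-- The linear relations between the `α i` with coefficients linear forms in `f`. -/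
def linRel : Set (Fin m → MvPolynomial (Fin n) k) :=
  {G | (∀ i, (G i).IsHomogeneous 1) ∧ ∑ i, MvPolynomial.aeval f (G i) * α i = 0}

/-- The linear form with given coefficients. -/
def lform : (Fin n → k) →ₗ[k] MvPolynomial (Fin n) k :=
  Fintype.linearCombination k (fun b => MvPolynomial.X b)

theorem lform_hom (c : Fin n → k) : (lform c).IsHomogeneous 1 := by
  rw [← MvPolynomial.mem_homogeneousSubmodule]
  simp only [lform, Fintype.linearCombination_apply]
  exact Submodule.sum_mem _ fun b _ => Submodule.smul_mem _ _ (MvPolynomial.isHomogeneous_X k b)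

theorem exists_lform {p : MvPolynomial (Fin n) k} (hp : p.IsHomogeneous 1) : ∃ c, lform c = p := by
  rw [← MvPolynomial.mem_homogeneousSubmodule, MvPolynomial.homogeneousSubmodule_one_eq_span_X,
    Submodule.mem_span_range_iff_exists_fun] at hp
  obtain ⟨c, rfl⟩ := hp
  exact ⟨c, Fintype.linearCombination_apply k _ c⟩

theorem aeval_lform (c : Fin n → k) : MvPolynomial.aeval f (lform c) = ∑ b, c b • f b := by
  simp [lform, Fintype.linearCombination_apply, map_sum, map_smul]

theorem eq_zero_of_aeval_linear (hli : LinearIndependent k f) {p : MvPolynomial (Fin n) k} (hp : p.IsHomogeneous 1)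
    (h : MvPolynomial.aeval f p = 0) : p = 0 := by
  obtain ⟨c, rfl⟩ := exists_lform hp
  rw [aeval_lform] at h
  rw [funext (Fintype.linearIndependent_iff.mp hli c h)]
  exact map_zero _

variable {f} {H : Divisor k K}

theorem aeval_mem (hK : IsFunctionField k K) (hf : ∀ a, f a ∈ L H) {l : ℕ} {p : MvPolynomial (Fin n) k}
    (hp : p.IsHomogeneous l) : MvPolynomial.aeval f p ∈ L ((l : ℤ) • H) := by
  rw [← MvPolynomial.mem_homogeneousSubmodule, ← MvPolynomial.homogeneousSubmodule_one_pow] at hp
  induction l generalizing p with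
  | zero =>
    rw [pow_zero, Submodule.mem_one] at hp
    obtain ⟨c, rfl⟩ := hp
    rw [AlgHom.commutes, Nat.cast_zero, zero_smul]
    rw [L_zero hK]
    exact Submodule.mem_one.mpr ⟨c, rfl⟩
  | succ l ih =>
    rw [pow_succ'] at hp
    refine Submodule.mul_induction_on hp (fun x hx y hy => ?_) fun x y hx hy => by rw [map_add]; exact add_mem hx hy
    rw [map_mul, Nat.cast_succ, add_smul, one_smul, add_comm]
    refine mul_mem ?_ (ih hy)
    obtain ⟨c, rfl⟩ := exists_lform hx
    rw [aeval_lform]
    exact Submodule.sum_mem _ fun b _ => Submodule.smul_mem _ _ (hf b)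

variable {α}

theorem eq_sum_of_span {t : Fin n → K} (hspan : Submodule.span k (Set.range t) = Submodule.span k (Set.range f))
    (hli : LinearIndependent k f) :
    ∃ Y : Fin n → MvPolynomial (Fin n) k, (∀ a, (Y a).IsHomogeneous 1 ∧ MvPolynomial.aeval f (Y a) = t a) ∧
      ∀ l, ∀ F : MvPolynomial (Fin n) k, F.IsHomogeneous (l + 1) →
        ∃ G : Fin n → MvPolynomial (Fin n) k, (∀ a, (G a).IsHomogeneous l) ∧ F = ∑ a, Y a * G a := by
  classical
  have ht : ∀ a, ∃ c : Fin n → k, ∑ b, c b • f b = t a := fun a => by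
    rw [← Submodule.mem_span_range_iff_exists_fun, ← hspan]
    exact Submodule.subset_span ⟨a, rfl⟩
  choose c hc using ht
  refine ⟨fun a => lform (c a), fun a => ⟨lform_hom _, by rw [aeval_lform, hc]⟩, fun l F hF => ?_⟩
  rw [← MvPolynomial.mem_homogeneousSubmodule, ← MvPolynomial.homogeneousSubmodule_one_pow, pow_succ',
    MvPolynomial.homogeneousSubmodule_one_pow] at hF
  refine Submodule.mul_induction_on hF (fun x hx y hy => ?_) ?_
  · obtain ⟨d, hd⟩ : ∃ d : Fin n → k, ∑ a, d a • t a = MvPolynomial.aeval f x := by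
      rw [← Submodule.mem_span_range_iff_exists_fun, hspan]
      obtain ⟨e, rfl⟩ := exists_lform hx
      rw [aeval_lform]
      exact Submodule.sum_mem _ fun b _ => Submodule.smul_mem _ _ (Submodule.subset_span ⟨b, rfl⟩)
    have hx' : x = ∑ a, d a • lform (c a) := by
      rw [← sub_eq_zero]
      refine eq_zero_of_aeval_linear f hli ?_ ?_
      · rw [← MvPolynomial.mem_homogeneousSubmodule]
        exact sub_mem hx (Submodule.sum_mem _ fun a _ => Submodule.smul_mem _ _ (lform_hom _))
      · simp [map_sub, map_sum, map_smul, aeval_lform, hc, hd]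
    refine ⟨fun a => d a • y, fun a => Submodule.smul_mem _ _ hy, ?_⟩
    rw [hx', Finset.sum_mul]
    exact Finset.sum_congr rfl fun a _ => by rw [smul_mul_assoc, mul_smul_comm]
  · rintro x y ⟨G₁, h₁, e₁⟩ ⟨G₂, h₂, e₂⟩
    refine ⟨G₁ + G₂, fun a => (h₁ a).add (h₂ a), ?_⟩
    rw [e₁, e₂, ← Finset.sum_add_distrib]
    exact Finset.sum_congr rfl fun a _ => by rw [Pi.add_apply, mul_add]

/-- Every section of `DA + lH` is a degree `l` combination of the `α i`. -/
def P0 (f : Fin n → K) (α : Fin m → K) (H DA : Divisor k K) : Prop :=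
  ∀ l : ℕ, ∀ x ∈ L (DA + (l : ℤ) • H),
    ∃ F : Fin m → MvPolynomial (Fin n) k, (∀ i, (F i).IsHomogeneous l) ∧ x = ∑ i, MvPolynomial.aeval f (F i) * α i

/-- Relations are generated by linear ones. -/
def P1 (f : Fin n → K) (α : Fin m → K) : Prop :=
  ∀ l : ℕ, ∀ F : Fin m → MvPolynomial (Fin n) k, (∀ i, (F i).IsHomogeneous l) →
    ∑ i, MvPolynomial.aeval f (F i) * α i = 0 → F ∈ Submodule.span (MvPolynomial (Fin n) k) (linRel (k := k) f α)

theorem p0_of_R0 {DA : Divisor k K} (hbasis : Submodule.span k (Set.range α) = L DA) {t : Fin n → K}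
    {Y : Fin n → MvPolynomial (Fin n) k} (hY : ∀ a, (Y a).IsHomogeneous 1 ∧ MvPolynomial.aeval f (Y a) = t a)
    (hR : ∀ l : ℕ, R0 t H (DA + (l : ℤ) • H)) : P0 f α H DA := by
  intro l
  induction l with
  | zero =>
    intro x hx
    rw [Nat.cast_zero, zero_smul, add_zero, ← hbasis, Submodule.mem_span_range_iff_exists_fun] at hx
    obtain ⟨c, rfl⟩ := hx
    exact ⟨fun i => MvPolynomial.C (c i), fun i => MvPolynomial.isHomogeneous_C _ _,
      Finset.sum_congr rfl fun i _ => by rw [MvPolynomial.aeval_C, Algebra.smul_def]⟩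
  | succ l ih =>
    intro x hx
    rw [Nat.cast_succ, add_smul, one_smul, ← add_assoc] at hx
    obtain ⟨w, hw, rfl⟩ := hR l x hx
    choose G hG eG using fun a => ih (w a) (hw a)
    refine ⟨fun i => ∑ a, Y a * G a i, fun i => MvPolynomial.IsHomogeneous.sum _ _ _ fun a _ => ?_, ?_⟩
    · rw [add_comm l 1]; exact (hY a).1.mul (hG a i)
    · simp only [map_sum, map_mul, (hY _).2, Finset.sum_mul]
      rw [Finset.sum_comm]
      refine Finset.sum_congr rfl fun a _ => ?_
      rw [eG a, Finset.mul_sum]
      exact Finset.sum_congr rfl fun i _ => by ring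

theorem p1_of_R1 {DA : Divisor k K} (hK : IsFunctionField k K) (hf : ∀ a, f a ∈ L H) (hα : ∀ i, α i ∈ L DA)
    (hαli : LinearIndependent k α) (hP0 : P0 f α H DA) {t : Fin n → K}
    {Y : Fin n → MvPolynomial (Fin n) k} (hY : ∀ a, (Y a).IsHomogeneous 1 ∧ MvPolynomial.aeval f (Y a) = t a)
    (hdec : ∀ l, ∀ F : MvPolynomial (Fin n) k, F.IsHomogeneous (l + 1) →
      ∃ G : Fin n → MvPolynomial (Fin n) k, (∀ a, (G a).IsHomogeneous l) ∧ F = ∑ a, Y a * G a)
    (hR : ∀ l : ℕ, R1 t H (DA + (l : ℤ) • H + H)) : P1 (k := k) f α := by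
  classical
  intro l
  induction l with
  | zero =>
    intro F hF h
    have hF' : ∀ i, F i = MvPolynomial.C ((F i).coeff 0) := fun i =>
      (MvPolynomial.totalDegree_eq_zero_iff_eq_C).mp (Nat.le_zero.mp (hF i).totalDegree_le)
    have h0 : ∀ i, (F i).coeff 0 = 0 := by
      refine Fintype.linearIndependent_iff.mp hαli _ (Eq.trans (Finset.sum_congr rfl fun i _ => ?_) h)
      conv_rhs => rw [hF' i, MvPolynomial.aeval_C]
      rw [Algebra.smul_def]
    rw [show F = 0 from funext fun i => by rw [hF' i, h0 i, map_zero]; rfl]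
    exact zero_mem _
  | succ l ih =>
    intro F hF h
    rcases Nat.eq_zero_or_pos l with rfl | hl
    · exact Submodule.subset_span ⟨hF, h⟩
    obtain ⟨j, rfl⟩ := Nat.exists_eq_add_of_le hl
    choose G hG eG using fun i => hdec _ (F i) (hF i)
    let u : Fin n → K := fun a => ∑ i, MvPolynomial.aeval f (G i a) * α i
    have hu : ∀ a, u a ∈ L (DA + (j : ℤ) • H + H) := fun a => Submodule.sum_mem _ fun i _ => by
      have := mul_mem (hα i) (aeval_mem hK hf (hG i a))
      rwa [mul_comm, Nat.cast_add, Nat.cast_one, add_smul, one_smul, add_comm H, ← add_assoc] at this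
    have husum : ∑ a, t a * u a = 0 := by
      refine Eq.trans ?_ h
      simp only [u, Finset.mul_sum]
      rw [Finset.sum_comm]
      refine Finset.sum_congr rfl fun i _ => ?_
      simp only [eG i, map_sum, map_mul, (hY _).2, Finset.sum_mul]
      exact Finset.sum_congr rfl fun a _ => by ring
    obtain ⟨ω, hω, hω0, hωa, eω⟩ := hR j u hu husum
    simp only [add_sub_cancel_right] at hω
    choose W hW eW using fun a b => hP0 j (ω a b) (hω a b)
    let W' : Fin n → Fin n → Fin m → MvPolynomial (Fin n) k := fun a b i =>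
      if a < b then W a b i else if b < a then -(W b a i) else 0
    have hW' : ∀ a b i, (W' a b i).IsHomogeneous j := fun a b i => by
      simp only [W']
      split_ifs
      exacts [hW a b i, (hW b a i).neg, MvPolynomial.isHomogeneous_zero _ _ _]
    have hWa : ∀ a b i, W' b a i = -W' a b i := fun a b i => by
      simp only [W']
      split_ifs with h1 h2 <;> first | simp | exact absurd (lt_trans ‹a < b› ‹b < a›) (lt_irrefl _)
    have eW' : ∀ a b, ∑ i, MvPolynomial.aeval f (W' a b i) * α i = ω a b := fun a b => by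
      simp only [W']
      rcases lt_trichotomy a b with h1 | rfl | h1
      · simp [h1, ← eW a b]
      · simp [hω0]
      · simp [h1, not_lt.mpr h1.le, hωa b a, ← eW b a]
    let G' : Fin n → Fin m → MvPolynomial (Fin n) k := fun a i => G i a - ∑ b, W' a b i * Y b
    have hG' : ∀ a i, (G' a i).IsHomogeneous (1 + j) := fun a i =>
      (hG i a).sub (MvPolynomial.IsHomogeneous.sum _ _ _ fun b _ => by
        rw [add_comm 1 j]; exact (hW' a b i).mul (hY b).1)
    have hG'0 : ∀ a, ∑ i, MvPolynomial.aeval f (G' a i) * α i = 0 := fun a => by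
      simp only [G', map_sub, sub_mul, Finset.sum_sub_distrib, map_sum, map_mul, (hY _).2, Finset.sum_mul]
      rw [Finset.sum_comm (f := fun i b => MvPolynomial.aeval f (W' a b i) * t b * α i), sub_eq_zero]
      refine (eω a).trans (Finset.sum_congr rfl fun b _ => ?_)
      rw [← eW' a b, Finset.sum_mul]
      exact Finset.sum_congr rfl fun i _ => by ring
    have key : F = ∑ a, Y a • G' a := funext fun i => by
      have h0 : ∑ a, ∑ b, Y a * (W' a b i * Y b) = 0 := by
        rw [← Fintype.sum_prod_type']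
        refine Finset.sum_involution (fun p _ => p.swap) (fun p _ => ?_) (fun p _ hp he => hp ?_)
          (fun p _ => Finset.mem_univ _) fun p _ => Prod.swap_swap p
        · simp only [Prod.fst_swap, Prod.snd_swap]
          rw [hWa p.1 p.2 i]; ring
        · have e : p.2 = p.1 := congrArg Prod.fst he
          simp only [W', e, lt_irrefl, if_false, zero_mul, mul_zero]
      simp only [Finset.sum_apply, Pi.smul_apply, smul_eq_mul, G', mul_sub, Finset.sum_sub_distrib, Finset.mul_sum, h0,
        sub_zero]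
      exact eG i
    rw [key]
    exact Submodule.sum_mem _ fun a _ => Submodule.smul_mem _ _ (ih (G' a) (hG' a) (hG'0 a))

variable (hK : IsFunctionField k K) {C : Divisor k K} (hC : IsCanonical k K C)

include hK hC in
/-- The twisted line bundle used to present the ideal of the curve. -/
theorem exists_presentation {q : ℕ} (f : Fin (q + 2) → K) (H : Divisor k K) (hli : LinearIndependent k f)
    (hb : BPF f H) :
    (q : ℤ) + 1 ≤ H.deg ∧ ∃ (DA : Divisor k K) (m : ℕ) (α : Fin m → K), (m : ℤ) = H.deg - q + 1 ∧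
      LinearIndependent k α ∧ Submodule.span k (Set.range α) = L DA ∧ P0 f α H DA ∧ P1 (k := k) f α := by
  classical
  obtain ⟨t, ht, hspan⟩ := exists_tower hK f H hli hb
  refine ⟨ht.deg_le, ?_⟩
  obtain ⟨Λ₀, hΛ₀, hR0⟩ := exists_R0 hK hC ht
  obtain ⟨Λ₁, hΛ₁, hR1⟩ := exists_R1 hK hC ht
  obtain ⟨DA, hdeg, hNS⟩ := exists_NS hK hC (insert 0 (Λ₀ ∪ Λ₁)) ((genus k K : ℤ) - 1 + (H.deg - q + 1)) fun E hE => by
    rcases Finset.mem_insert.mp hE with rfl | hE
    · have := ht.deg_le; rw [deg_zero]; omega
    rcases Finset.mem_union.mp hE with hE | hE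
    · have := hΛ₀ E hE; omega
    · have := hΛ₁ E hE; omega
  haveI := finiteDimensional_L hK.1 DA
  let b := Module.finBasis k (L DA)
  have hm : (finrank k (L DA) : ℤ) = H.deg - q + 1 := by
    have h0 : NS C DA := by simpa using hNS 0 (Finset.mem_insert_self _ _)
    have := h0.ell_eq hK hC
    rw [ell] at this
    omega
  obtain ⟨Y, hY, hdec⟩ := eq_sum_of_span hspan hli
  have hns : ∀ E ∈ Λ₀ ∪ Λ₁, ∀ l : ℕ, NS C (DA + (l : ℤ) • H + E) := fun E hE l => by
    have h1 : NS C (DA + E) := hNS E (Finset.mem_insert_of_mem hE)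
    have hm' : MvPolynomial.aeval f ((MvPolynomial.X 0 : MvPolynomial (Fin (q + 2)) k) ^ l) ∈ L ((l : ℤ) • H) :=
      aeval_mem hK hb.1 (MvPolynomial.isHomogeneous_X_pow 0 l)
    have := h1.add hK hm' (by simpa using pow_ne_zero l (hli.ne_zero 0))
    rwa [show DA + E + (l : ℤ) • H = DA + (l : ℤ) • H + E by abel] at this
  have hαli : LinearIndependent k fun i => (b i : K) :=
    b.linearIndependent.map' (L DA).subtype (Submodule.ker_subtype _)
  have hspanα : Submodule.span k (Set.range fun i => (b i : K)) = L DA := by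
    rw [show (Set.range fun i => (b i : K)) = (L DA).subtype '' Set.range b from Set.range_comp _ _,
      Submodule.span_image, b.span_eq, Submodule.map_top, Submodule.range_subtype]
  have hP0 : P0 f (fun i => (b i : K)) H DA :=
    p0_of_R0 hspanα hY fun l => hR0 _ fun E hE => hns E (Finset.mem_union_left _ hE) l
  exact ⟨DA, _, fun i => (b i : K), hm, hαli, hspanα, hP0,
    p1_of_R1 hK hb.1 (fun i => (b i).2) hαli hP0 hY hdec fun l => hR1 _ fun E hE => hns E (Finset.mem_union_right _ hE) l⟩

end GLPLib
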