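import Groth.Agent.GLPLib.Bridge

/-!
# The regularity bound for curves
-/

set_option autoImplicit false
set_option linter.style.haveILetI false
set_option linter.unusedSectionVars false
set_option maxHeartbeats 1000000
set_option backward.isDefEq.respectTransparency false
set_option backward.isDefEq.respectTransparency.types false
universe u

open CategoryTheory CategoryTheory.Limits AlgebraicGeometry TopologicalSpace Opposite
open CurveDualLib
open GradedCechLib (deh)
open FunFld

noncomputable section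

namespace GLPLib

attribute [local instance] algFF

variable {k : Type u} [Field k] [IsAlgClosed k] {r : ℕ} {X : Scheme.{u}} [X.Over (Spec (CommRingCat.of k))]
  [IsIntegral X] [IsProper (X ↘ (Spec (CommRingCat.of k)))] [Smooth (X ↘ Spec (CommRingCat.of k))]

theorem idealMod_isMRegular (hr : 1 ≤ r) (hdim : topologicalKrullDim X = 1)
    (i : X ⟶ CohB1.ProjSpace r k) [IsClosedImmersion i]
    (hi : i ≫ CohB1.ProjSpace.toSpec r k = (X ↘ (Spec (CommRingCat.of k))))
    (hplane : ∀ s : LinSer.Sect (CohB1.ProjSpace r k) (Twist.twistProjSpace r k 1), s ≠ 0 →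
      OmegaSh.pullSect i (Twist.twistProjSpace r k 1) ⊤ s ≠ 0) :
    Curv2.IsMRegular k r (ClSub.idealMod i.ker)
      (Curv2.deg k X ((Scheme.Modules.pullback i).obj (Twist.twistProjSpace r k 1)) 1 - (r : ℤ) + 2) := by
  classical
  obtain ⟨q, rfl⟩ : ∃ q, r = q + 1 := ⟨r - 1, by omega⟩
  obtain ⟨f, H, E⟩ := exists_emb i hi hdim hplane
  obtain ⟨C, hC⟩ : ∃ C, IsCanonical k X.functionField C := by
    obtain ⟨C, σ, -, -, hcan⟩ := exists_canonical (k := k) (X := X) hdim
    exact ⟨C, hcan⟩
  obtain ⟨hdeg, DA, m, α, hm, hαli, -, -, hP1⟩ :=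
    exists_presentation (isFunctionField (k := k) hdim) hC f H E.li E.bpf
  obtain ⟨n, N, hN, hspan⟩ := exists_linRel_span (k := k) f α
  let N' : Fin n → Fin m → ↥(CohB1.polyGrading (q + 1) k 1) := fun b a =>
    ⟨N b a, (MvPolynomial.mem_homogeneousSubmodule _ _).mpr ((hN b).1 a)⟩
  have hm0 : 0 < m := by omega
  have hII : Fitt.sheafIdeal (cokernel (phiN N')) 0 = i.ker := by
    refine Scheme.IdealSheafData.ext_of_iSup_eq_top
      (fun j => ⟨QCohLib.stdOpen (q + 1) k j, ENComplexLib.isAffineOpen_Dst j⟩) (QCohLib.iSup_stdOpen (q + 1) k) fun j => ?_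
    rw [ideal_phiN N' j, Scheme.Hom.ker_apply]
    show FittLib.J ((Submodule.span Γ(CohB1.ProjSpace (q + 1) k, QCohLib.stdOpen (q + 1) k j) (Set.range fun b : Fin n => fun a : Fin m => deh (q + 1) k j (N b a))) : Set (Fin m → Γ(CohB1.ProjSpace (q + 1) k, QCohLib.stdOpen (q + 1) k j))) m = _
    rw [← relMod_eq hi E hP1 hN hspan j,
      J_relMod_eq_ker (evV i (E.mem j)) α (j₀ := (⟨0, hm0⟩ : Fin m)) (hαli.ne_zero _)
        (fun p hp hker => locally_principal E hdim j (a₀ := (⟨0, hm0⟩ : Fin m)) (hαli.ne_zero _) p hp hker)]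
    ext s
    rw [RingHom.mem_ker, RingHom.mem_ker]
    show X.presheaf.germ _ _ (E.mem j) (i.app _ s) = 0 ↔ _
    exact ⟨fun h => germ_injective_of_isIntegral X (genericPoint X) (E.mem j) (h.trans (map_zero _).symm),
      fun h => by rw [h, map_zero]⟩
  have hsupp : topologicalKrullDim ((Fitt.sheafIdeal (cokernel (phiN N')) 0).support :
      Set (CohB1.ProjSpace (q + 1) k)) ≤ 1 := by
    rw [hII, Scheme.Hom.support_ker, i.isClosedEmbedding.isClosed_range.closure_eq]
    exact (IsHomeomorph.topologicalKrullDim_eq _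
      i.isClosedEmbedding.isEmbedding.toHomeomorph.isHomeomorph).symm.trans hdim |>.le
  have h := ENComplexLib.isMRegular_II (phiN N') hsupp
  rw [show ENComplexLib.II (phiN N') = i.ker from hII] at h
  rw [E.deg, show H.deg - ((q + 1 : ℕ) : ℤ) + 2 = (m : ℤ) by push_cast; omega]
  exact h

end GLPLib
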