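import Groth.Agent.FFLib.RR
import Groth.Agent.FFLib.DegOne
import Groth.Agent.FFLib.CastelnuovoTwo

/-!
# Multiplication of Riemann–Roch spaces along a base point tower
-/

set_option autoImplicit false
set_option linter.unusedSectionVars false
set_option maxHeartbeats 1000000
universe u

open WithZero Module FunFld
open Groth.Agent.FFLib

noncomputable section

namespace GLPLib

variable {k K : Type u} [Field k] [IsAlgClosed k] [Field K] [Algebra k K]

theorem mul_mem {D E : Divisor k K} {x y : K} (hx : x ∈ L D) (hy : y ∈ L E) : x * y ∈ L (D + E) := fun P => by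
  rw [map_mul, Finsupp.add_apply, exp_add]
  exact mul_le_mul' (hx P) (hy P)

theorem v_eq_exp {H : Divisor k K} {x : K} (hx : x ∈ L H) {P : Place k K}
    (h : x ∉ L (H - Finsupp.single P 1)) : P.1 x = exp (H P) := by
  classical
  refine le_antisymm (hx P) ?_
  by_contra hlt
  rw [not_le] at hlt
  refine h fun Q => ?_
  by_cases hQ : Q = P
  · subst hQ
    rcases eq_or_ne x 0 with rfl | h0
    · simp
    rw [v_eq Q h0, exp_lt_exp] at hlt
    rw [v_eq Q h0, exp_le_exp, Finsupp.sub_apply, Finsupp.single_eq_same]
    omega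
  · rw [Finsupp.sub_apply, Finsupp.single_eq_of_ne hQ, sub_zero]
    exact hx Q

/-- Sections of `H` without base points. -/
def BPF {q : ℕ} (s : Fin q → K) (H : Divisor k K) : Prop :=
  (∀ a, s a ∈ L H) ∧ ∀ P : Place k K, ∃ a, s a ∉ L (H - Finsupp.single P 1)

/-- A chain of base point divisors down to a pencil. -/
inductive Tower : (q : ℕ) → (Fin (q + 2) → K) → Divisor k K → Prop
  | base (s : Fin 2 → K) (H : Divisor k K) (hb : BPF s H) (hd : 1 ≤ H.deg) : Tower 0 s H
  | step (q : ℕ) (s : Fin (q + 3) → K) (H B : Divisor k K) (hb : BPF s H) (h0 : 0 ≤ B) (h1 : 1 ≤ B.deg)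
      (h : Tower q (Fin.init s) (H - B)) : Tower (q + 1) s H

theorem Tower.bpf {q : ℕ} {s : Fin (q + 2) → K} {H : Divisor k K} (h : Tower q s H) : BPF s H := by
  cases h <;> assumption

theorem Tower.deg_le {q : ℕ} {s : Fin (q + 2) → K} {H : Divisor k K} (h : Tower q s H) : (q : ℤ) + 1 ≤ H.deg := by
  induction h with
  | base s H hb hd => simpa using hd
  | step q s H B hb h0 h1 h ih => rw [deg_sub] at ih; push_cast; omega

variable (hK : IsFunctionField k K) {C : Divisor k K} (hC : IsCanonical k K C)

variable (C) in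
/-- Nonspecial divisors. -/
def NS (D : Divisor k K) : Prop := ell (C - D) = 0

include hK hC in
theorem NS.ell_eq {D : Divisor k K} (h : NS C D) : (ell D : ℤ) = D.deg + 1 - genus k K := by
  have := riemann_roch hK hC D
  rw [show ell (C - D) = 0 from h] at this
  push_cast at this
  omega

include hK in
theorem NS.add {D F : Divisor k K} (h : NS C D) {x : K} (hx : x ∈ L F) (hx0 : x ≠ 0) : NS C (D + F) := by
  haveI := finiteDimensional_L hK.1 (C - D)
  haveI := finiteDimensional_L hK.1 (C - (D + F))
  unfold NS ell at h ⊢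
  rw [Submodule.finrank_eq_zero] at h ⊢
  rw [eq_bot_iff]
  intro y hy
  have hm : x * y ∈ L (C - D) := by
    have := mul_mem hx hy
    rwa [show F + (C - (D + F)) = C - D by abel] at this
  rw [h, Submodule.mem_bot] at hm
  exact (Submodule.mem_bot k).mpr ((mul_eq_zero.mp hm).resolve_left hx0)

/-- Division by a section with no zero on the support of `B`. -/
theorem div_mem {D H B : Divisor k K} {t u : K} (ht : ∀ P, B P ≠ 0 → P.1 t = exp (H P)) (hu : u ∈ L D)
    (h : t * u ∈ L (D + H - B)) : u ∈ L (D - B) := fun P => by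
  rw [Finsupp.sub_apply]
  by_cases hB : B P = 0
  · rw [hB, sub_zero]; exact hu P
  · have h1 := h P
    rw [map_mul, ht P hB, Finsupp.sub_apply, Finsupp.add_apply, add_sub_right_comm, exp_add, mul_comm] at h1
    exact le_of_mul_le_mul_right h1 exp_pos

include hK hC in
/-- Interpolation along `B`. -/
theorem interp {G H B : Divisor k K} {t : K} (htH : t ∈ L H) (ht : ∀ P, B P ≠ 0 → P.1 t = exp (H P)) (h0 : 0 ≤ B)
    (hG : NS C G) (hGB : NS C (G - B)) {f : K} (hf : f ∈ L (G + H)) :
    ∃ u ∈ L G, f - t * u ∈ L (G + H - B) := by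
  have hle : G + H - B ≤ G + H := sub_le_self _ h0
  haveI := (finite_quo_L hK.1 (G + H - B) (G + H) hle).1
  haveI := finiteDimensional_L hK.1 G
  haveI := finiteDimensional_L hK.1 (G - B)
  let φ : L G →ₗ[k] quo (L (G + H - B)) (L (G + H)) :=
    (Submodule.mkQ _).comp (LinearMap.codRestrict (L (G + H)) ((LinearMap.mulLeft k t).comp (L G).subtype)
      fun u => by
        have := mul_mem htH u.2
        rwa [add_comm H G] at this)
  have hker : ∀ u : L G, φ u = 0 → (u : K) ∈ L (G - B) := fun u hu => by
    have h1 : t * (u : K) ∈ L (G + H - B) :=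
      (Submodule.Quotient.mk_eq_zero (Submodule.comap (L (G + H)).subtype (L (G + H - B)))).mp hu
    exact div_mem ht u.2 h1
  have hk : finrank k (LinearMap.ker φ) ≤ ell (G - B) := by
    refine LinearMap.finrank_le_finrank_of_injective (f := LinearMap.codRestrict (L (G - B))
      ((L G).subtype.comp (LinearMap.ker φ).subtype) fun u => hker u.1 u.2) fun a b h => ?_
    exact Subtype.ext (Subtype.ext (congrArg (fun z : L (G - B) => (z : K)) h))
  have h1 := LinearMap.finrank_range_add_finrank_ker φ
  have h2 := (finite_quo_L hK.1 (G + H - B) (G + H) hle).2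
  have h3 := hG.ell_eq hK hC
  have h4 := hGB.ell_eq hK hC
  rw [deg_sub] at h4
  rw [deg_sub, sub_sub_cancel] at h2
  have h5 : finrank k (L G) = ell G := rfl
  have htop : LinearMap.range φ = ⊤ := by
    refine Submodule.eq_top_of_finrank_eq (le_antisymm (Submodule.finrank_le _) ?_)
    omega
  obtain ⟨u, hu⟩ := LinearMap.range_eq_top.mp htop (Submodule.Quotient.mk ⟨f, hf⟩)
  exact ⟨u, u.2, (Submodule.Quotient.eq (Submodule.comap (L (G + H)).subtype (L (G + H - B)))).mp hu.symm⟩

/-- Multiplication onto `L(D + H)`. -/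
def R0 {q : ℕ} (s : Fin q → K) (H D : Divisor k K) : Prop :=
  ∀ f ∈ L (D + H), ∃ w : Fin q → K, (∀ a, w a ∈ L D) ∧ f = ∑ a, s a * w a

/-- Relations are antisymmetric. -/
def R1 {q : ℕ} (s : Fin q → K) (H D : Divisor k K) : Prop :=
  ∀ u : Fin q → K, (∀ a, u a ∈ L D) → ∑ a, s a * u a = 0 →
    ∃ ω : Fin q → Fin q → K, (∀ a b, ω a b ∈ L (D - H)) ∧ (∀ a, ω a a = 0) ∧ (∀ a b, ω b a = -ω a b) ∧
      ∀ a, u a = ∑ b, ω a b * s b

theorem ne_zero_of_notMem {D : Divisor k K} {x : K} (h : x ∉ L D) : x ≠ 0 := fun e => h (e ▸ zero_mem _)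

include hK in
theorem exists_place' : Nonempty (Place k K) := by
  haveI := infinite_places hK
  exact inferInstance

theorem step_data {q : ℕ} {s : Fin (q + 3) → K} {H B : Divisor k K} (hb : BPF s H)
    (h : Tower q (Fin.init s) (H - B)) (h0 : 0 ≤ B) :
    ∀ P, B P ≠ 0 → P.1 (s (Fin.last (q + 2))) = exp (H P) := fun P hP => by
  classical
  obtain ⟨a, ha⟩ := hb.2 P
  induction a using Fin.lastCases with
  | last => exact v_eq_exp (hb.1 _) ha
  | cast a =>
    refine absurd ?_ ha
    refine L_mono ?_ (h.bpf.1 a)
    intro Q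
    rw [Finsupp.sub_apply, Finsupp.sub_apply]
    have hQ := h0 Q
    rw [Finsupp.zero_apply] at hQ
    by_cases e : Q = P
    · subst e; rw [Finsupp.single_eq_same]; omega
    · rw [Finsupp.single_eq_of_ne e]; omega

include hK hC in
/-- Surjectivity of multiplication along a tower. -/
theorem exists_R0 {q : ℕ} {s : Fin (q + 2) → K} {H : Divisor k K} (h : Tower q s H) :
    ∃ Λ : Finset (Divisor k K), (∀ E ∈ Λ, -(H.deg - q) ≤ E.deg) ∧ ∀ D, (∀ E ∈ Λ, NS C (D + E)) → R0 s H D := by
  classical
  induction h with
  | base s H hb hd =>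
    refine ⟨{-H}, fun E hE => by rw [Finset.mem_singleton.mp hE, deg_neg]; simp, fun D hD f hf => ?_⟩
    have hns : NS C (D - H) := by have := hD (-H) (Finset.mem_singleton_self _); rwa [← sub_eq_add_neg] at this
    haveI := finiteDimensional_L hK.1 D
    haveI := finiteDimensional_L hK.1 (D + H)
    haveI := finiteDimensional_L hK.1 (D - H)
    obtain ⟨P0⟩ := exists_place' hK
    obtain ⟨a0, ha0⟩ := hb.2 P0
    have hsH : s a0 ≠ 0 := ne_zero_of_notMem ha0
    have hnD : NS C D := by
      have := hns.add hK (hb.1 a0) hsH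
      rwa [sub_add_cancel] at this
    have hnDH : NS C (D + H) := hnD.add hK (hb.1 a0) hsH
    let φ : (L D × L D) →ₗ[k] L (D + H) :=
      LinearMap.codRestrict (L (D + H))
        (((LinearMap.mulLeft k (s 0)).comp (L D).subtype).coprod ((LinearMap.mulLeft k (s 1)).comp (L D).subtype))
        fun p => by
          have e0 := mul_mem (hb.1 0) p.1.2
          have e1 := mul_mem (hb.1 1) p.2.2
          rw [add_comm H D] at e0 e1
          exact add_mem e0 e1
    have hzero : s 1 ≠ 0 ∨ s 0 ≠ 0 := by fin_cases a0; exacts [.inr hsH, .inl hsH]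
    have hker : finrank k (LinearMap.ker φ) ≤ ell (D - H) := by
      let ψ : LinearMap.ker φ →ₗ[k] K :=
        if s 1 = 0 then (-(s 0)⁻¹ : K) • ((L D).subtype.comp ((LinearMap.snd k _ _).comp (LinearMap.ker φ).subtype))
        else ((s 1)⁻¹ : K) • ((L D).subtype.comp ((LinearMap.fst k _ _).comp (LinearMap.ker φ).subtype))
      have key : ∀ p : LinearMap.ker φ, (p.1.1 : K) = ψ p * s 1 ∧ (p.1.2 : K) = -(ψ p * s 0) := fun p => by
        have e : s 0 * (p.1.1 : K) + s 1 * (p.1.2 : K) = 0 := congrArg Subtype.val (LinearMap.mem_ker.mp p.2)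
        by_cases h1 : s 1 = 0
        · have h0 := hzero.resolve_left (by simp [h1])
          rw [h1, zero_mul, add_zero, mul_eq_zero] at e
          refine ⟨by simpa [h1] using e.resolve_left h0, ?_⟩
          simp only [ψ, if_pos h1, LinearMap.smul_apply, LinearMap.comp_apply, smul_eq_mul]
          field_simp
          simp
        · simp only [ψ, if_neg h1, LinearMap.smul_apply, LinearMap.comp_apply, smul_eq_mul]
          refine ⟨?_, ?_⟩
          · field_simp; simp
          · field_simp
            simp only [LinearMap.fst_apply, Submodule.subtype_apply]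
            linear_combination e
      have hmem : ∀ p, ψ p ∈ L (D - H) := fun p P => by
        obtain ⟨a, ha⟩ := hb.2 P
        have hv := v_eq_exp (hb.1 a) ha
        obtain ⟨k0, k1⟩ := key p
        have h1 : P.1 (ψ p * s a) ≤ exp (D P) := by
          fin_cases a
          · have := p.1.2.2 P
            rwa [k1, Valuation.map_neg] at this
          · have := p.1.1.2 P
            rwa [k0] at this
        rw [map_mul, hv, ← sub_add_cancel (D P) (H P), exp_add] at h1
        rw [Finsupp.sub_apply]
        exact le_of_mul_le_mul_right h1 exp_pos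
      refine LinearMap.finrank_le_finrank_of_injective (f := LinearMap.codRestrict (L (D - H)) ψ hmem) fun a b hab => ?_
      have he : ψ a = ψ b := congrArg Subtype.val hab
      refine Subtype.ext (Prod.ext (Subtype.ext ?_) (Subtype.ext ?_))
      · rw [(key a).1, (key b).1, he]
      · rw [(key a).2, (key b).2, he]
    have h1 := LinearMap.finrank_range_add_finrank_ker φ
    have h2 := hns.ell_eq hK hC
    have h3 := hnD.ell_eq hK hC
    have h4 := hnDH.ell_eq hK hC
    rw [deg_sub] at h2
    rw [deg_add] at h4
    rw [Module.finrank_prod, show finrank k (L D) = ell D from rfl] at h1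
    have htop : LinearMap.range φ = ⊤ := by
      refine Submodule.eq_top_of_finrank_eq (le_antisymm (Submodule.finrank_le _) ?_)
      show ell (D + H) ≤ _
      omega
    obtain ⟨p, hp⟩ := LinearMap.range_eq_top.mp htop ⟨f, hf⟩
    refine ⟨![(p.1 : K), (p.2 : K)], fun a => by fin_cases a <;> simp, ?_⟩
    rw [Fin.sum_univ_two]
    exact (congrArg Subtype.val hp).symm
  | step q s H B hb h0 h1 h ih =>
    obtain ⟨Λ, hΛ, hR⟩ := ih
    have hdeg := h.deg_le
    rw [deg_sub] at hdeg
    refine ⟨insert 0 (insert (-B) Λ), fun E hE => ?_, fun D hD f hf => ?_⟩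
    · push_cast
      rcases Finset.mem_insert.mp hE with rfl | hE
      · rw [deg_zero]; omega
      rcases Finset.mem_insert.mp hE with rfl | hE
      · rw [deg_neg]; omega
      · have := hΛ E hE
        rw [deg_sub] at this
        omega
    · have hnD : NS C D := by simpa using hD 0 (Finset.mem_insert_self _ _)
      have hnB : NS C (D - B) := by
        have := hD (-B) (Finset.mem_insert_of_mem (Finset.mem_insert_self _ _))
        rwa [← sub_eq_add_neg] at this
      obtain ⟨u, hu, hfu⟩ := interp hK hC (hb.1 _) (step_data hb h h0) h0 hnD hnB hf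
      rw [show D + H - B = D + (H - B) by abel] at hfu
      obtain ⟨w, hw, e⟩ := hR D (fun E hE => hD E (Finset.mem_insert_of_mem (Finset.mem_insert_of_mem hE))) _ hfu
      refine ⟨Fin.snoc w u, fun a => ?_, ?_⟩
      · induction a using Fin.lastCases with
        | last => rwa [Fin.snoc_last]
        | cast a => rw [Fin.snoc_castSucc]; exact hw a
      · rw [Fin.sum_univ_castSucc, Fin.snoc_last]
        simp only [Fin.snoc_castSucc]
        exact sub_eq_iff_eq_add.mp e

include hK hC in
/-- Koszul generation of relations along a tower. -/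
theorem exists_R1 {q : ℕ} {s : Fin (q + 2) → K} {H : Divisor k K} (h : Tower q s H) :
    ∃ Λ : Finset (Divisor k K), (∀ E ∈ Λ, -(H.deg - q + 1) ≤ E.deg) ∧
      ∀ G, (∀ E ∈ Λ, NS C (G + E)) → R1 s H (G + H) := by
  classical
  induction h with
  | base s H hb hd =>
    refine ⟨∅, fun E hE => absurd hE (Finset.notMem_empty E), fun G _ u hu e => ?_⟩
    rw [Fin.sum_univ_two] at e
    obtain ⟨P0⟩ := exists_place' hK
    obtain ⟨a0, ha0⟩ := hb.2 P0
    have hsH : s a0 ≠ 0 := ne_zero_of_notMem ha0
    obtain ⟨w, k0, k1⟩ : ∃ w, u 0 = w * s 1 ∧ u 1 = -(w * s 0) := by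
      by_cases h1 : s 1 = 0
      · have h0 : s 0 ≠ 0 := by fin_cases a0; exacts [hsH, absurd h1 hsH]
        rw [h1, zero_mul, add_zero, mul_eq_zero] at e
        exact ⟨-(u 1 / s 0), by simpa [h1] using e.resolve_left h0, by field_simp⟩
      · refine ⟨u 0 / s 1, by field_simp, ?_⟩
        field_simp
        linear_combination e
    have hw : w ∈ L G := fun P => by
      obtain ⟨a, ha⟩ := hb.2 P
      have hv := v_eq_exp (hb.1 a) ha
      have h1 : P.1 (w * s a) ≤ exp ((G + H) P) := by
        fin_cases a
        · have := hu 1 P; rwa [k1, Valuation.map_neg] at this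
        · have := hu 0 P; rwa [k0] at this
      rw [map_mul, hv, Finsupp.add_apply, exp_add] at h1
      exact le_of_mul_le_mul_right h1 exp_pos
    refine ⟨![![0, w], ![-w, 0]], fun a b => ?_, fun a => ?_, fun a b => ?_, fun a => ?_⟩
    · rw [add_sub_cancel_right]
      fin_cases a <;> fin_cases b <;> simp [hw]
    · fin_cases a <;> simp
    · fin_cases a <;> fin_cases b <;> simp
    · fin_cases a <;> simp [Fin.sum_univ_two, k0, k1]
  | step q s H B hb h0 h1 h ih =>
    obtain ⟨Λ₁, hΛ₁, hR1⟩ := ih
    obtain ⟨Λ₀, hΛ₀, hR0⟩ := exists_R0 hK hC h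
    have hdeg := h.deg_le
    rw [deg_sub] at hdeg
    refine ⟨insert 0 (insert (-B) (Λ₁ ∪ Λ₀ ∪ Λ₀.image fun E => E - B)), fun E hE => ?_, fun G hG u hu hsum => ?_⟩
    · push_cast
      rcases Finset.mem_insert.mp hE with rfl | hE
      · rw [deg_zero]; omega
      rcases Finset.mem_insert.mp hE with rfl | hE
      · rw [deg_neg]; omega
      simp only [Finset.mem_union, Finset.mem_image] at hE
      rcases hE with (hE | hE) | ⟨F, hF, rfl⟩
      · have := hΛ₁ E hE; rw [deg_sub] at this; omega
      · have := hΛ₀ E hE; rw [deg_sub] at this; omega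
      · have := hΛ₀ F hF; rw [deg_sub] at this ⊢; omega
    set t := s (Fin.last (q + 2)) with ht
    have htv := step_data hb h h0
    have hin : ∀ a : Fin (q + 2), Fin.init s a ∈ L (H - B) := h.bpf.1
    have hs' : ∀ a : Fin (q + 2), s a.castSucc = Fin.init s a := fun a => rfl
    rw [Fin.sum_univ_castSucc] at hsum
    simp only [hs', ← ht] at hsum
    have hnG : NS C G := by simpa using hG 0 (Finset.mem_insert_self _ _)
    have hnGB : NS C (G - B) := by
      have := hG (-B) (Finset.mem_insert_of_mem (Finset.mem_insert_self _ _))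
      rwa [← sub_eq_add_neg] at this
    -- the last coordinate
    have hlast : u (Fin.last (q + 2)) ∈ L (G + H - B) := by
      refine div_mem htv (hu _) ?_
      have e : t * u (Fin.last (q + 2)) = -∑ a, Fin.init s a * u a.castSucc := by linear_combination hsum
      rw [e]
      refine neg_mem (Submodule.sum_mem _ fun a _ => ?_)
      have := mul_mem (hin a) (hu a.castSucc)
      rwa [show H - B + (G + H) = G + H + H - B by abel] at this
    rw [show G + H - B = G + (H - B) by abel] at hlast
    obtain ⟨c, hc, ec⟩ := hR0 G (fun E hE => hG E (by simp [hE])) _ hlast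
    -- move it away
    set x : Fin (q + 2) → K := fun a => u a.castSucc + t * c a with hx
    have hxL : ∀ a, x a ∈ L (G + H) := fun a => add_mem (hu _) (by
      have := mul_mem (hb.1 (Fin.last (q + 2))) (hc a)
      rwa [add_comm H G] at this)
    have hxsum : ∑ a, Fin.init s a * x a = 0 := by
      simp only [hx, mul_add, Finset.sum_add_distrib]
      rw [ec, Finset.mul_sum] at hsum
      refine Eq.trans ?_ hsum
      refine congrArg (_ + ·) (Finset.sum_congr rfl fun a _ => ?_)
      ring
    -- match the values along `B`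
    choose w₀ hw₀ hw₀' using fun a => interp hK hC (hb.1 (Fin.last (q + 2))) htv h0 hnG hnGB (hxL a)
    have hz : ∑ a, Fin.init s a * w₀ a ∈ L (G + (H - B) - B) := by
      refine div_mem htv (Submodule.sum_mem _ fun a _ => ?_) ?_
      · have := mul_mem (hin a) (hw₀ a)
        rwa [add_comm (H - B) G] at this
      · have e : t * ∑ a, Fin.init s a * w₀ a = -∑ a, Fin.init s a * (x a - t * w₀ a) := by
          simp only [mul_sub, Finset.sum_sub_distrib, hxsum, zero_sub, neg_neg, Finset.mul_sum]
          exact Finset.sum_congr rfl fun a _ => by ring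
        rw [e]
        refine neg_mem (Submodule.sum_mem _ fun a _ => ?_)
        have := mul_mem (hin a) (hw₀' a)
        rwa [show H - B + (G + H - B) = G + (H - B) + H - B by abel] at this
    rw [show G + (H - B) - B = G - B + (H - B) by abel] at hz
    obtain ⟨w₁, hw₁, ew₁⟩ := hR0 (G - B) (fun E hE => by
      have := hG (E - B) (by simp only [Finset.mem_insert, Finset.mem_union, Finset.mem_image]; exact .inr (.inr (.inr ⟨E, hE, rfl⟩)))
      rwa [show G - B + E = G + (E - B) by abel]) _ hz
    set w : Fin (q + 2) → K := fun a => w₀ a - w₁ a with hw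
    have hwL : ∀ a, w a ∈ L G := fun a => sub_mem (hw₀ a) (L_mono (sub_le_self _ h0) (hw₁ a))
    have hwsum : ∑ a, Fin.init s a * w a = 0 := by
      simp only [hw, mul_sub, Finset.sum_sub_distrib, ← ew₁, sub_self]
    set y : Fin (q + 2) → K := fun a => x a - t * w a with hy
    have hyL : ∀ a, y a ∈ L (G + (H - B)) := fun a => by
      have h2 := mul_mem (hb.1 (Fin.last (q + 2))) (hw₁ a)
      rw [show H + (G - B) = G + (H - B) by abel] at h2
      have h3 := hw₀' a
      rw [show G + H - B = G + (H - B) by abel] at h3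
      have := add_mem h3 h2
      simp only [hy, hw]
      rwa [← ht, show x a - t * w₀ a + t * w₁ a = x a - t * (w₀ a - w₁ a) by ring] at this
    have hysum : ∑ a, Fin.init s a * y a = 0 := by
      simp only [hy, mul_sub, Finset.sum_sub_distrib, hxsum, zero_sub, neg_eq_zero]
      refine Eq.trans ?_ (mul_eq_zero_of_right t hwsum)
      rw [Finset.mul_sum]
      exact Finset.sum_congr rfl fun a _ => by ring
    obtain ⟨ω, hω, hω0, hωa, eω⟩ := hR1 G (fun E hE => hG E (by simp [hE])) y hyL hysum
    simp only [add_sub_cancel_right] at hω ⊢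
    let Ω : Fin (q + 3) → Fin (q + 3) → K :=
      Fin.snoc (fun a => Fin.snoc (ω a) (w a - c a)) (Fin.snoc (fun b => -(w b - c b)) 0)
    refine ⟨Ω, fun a b => ?_, fun a => ?_, fun a b => ?_, fun a => ?_⟩
    · induction a using Fin.lastCases <;> induction b using Fin.lastCases <;> simp only [Ω, Fin.snoc_last, Fin.snoc_castSucc]
      · exact zero_mem _
      · exact neg_mem (sub_mem (hwL _) (hc _))
      · exact sub_mem (hwL _) (hc _)
      · exact hω _ _
    · induction a using Fin.lastCases <;> simp [Ω, hω0]
    · induction a using Fin.lastCases <;> induction b using Fin.lastCases <;> simp only [Ω, Fin.snoc_last, Fin.snoc_castSucc]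
      · simp
      · exact (neg_neg _).symm
      · exact hωa _ _
    · induction a using Fin.lastCases with
      | last =>
        rw [Fin.sum_univ_castSucc]
        simp only [Ω, Fin.snoc_last, Fin.snoc_castSucc, zero_mul, add_zero, hs']
        rw [ec, ← sub_zero (∑ a, Fin.init s a * c a), ← hwsum, ← Finset.sum_sub_distrib]
        exact Finset.sum_congr rfl fun b _ => by ring
      | cast a =>
        rw [Fin.sum_univ_castSucc]
        simp only [Ω, Fin.snoc_last, Fin.snoc_castSucc, hs', ← ht]
        rw [← eω a]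
        simp only [hy, hx]
        ring

include hK in
/-- A tower with a given span. -/
theorem exists_tower : ∀ {q : ℕ} (s : Fin (q + 2) → K) (H : Divisor k K), LinearIndependent k s → BPF s H →
    ∃ t, Tower q t H ∧ Submodule.span k (Set.range t) = Submodule.span k (Set.range s)
  | 0, s, H, hli, hb => by
    refine ⟨s, .base s H hb ?_, rfl⟩
    haveI := finiteDimensional_L hK.1 H
    have h2 : 2 ≤ ell H := by
      have hli' : LinearIndependent k (fun a => (⟨s a, hb.1 a⟩ : L H)) := LinearIndependent.of_comp (L H).subtype hli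
      simpa [ell] using hli'.fintype_card_le_finrank
    obtain ⟨z, hz, hzp⟩ := exists_effective_of_ell_pos hK.1 (D := H) (by omega)
    have h3 := ell_le_deg_add_one hK hzp
    rw [ell_add_div hK.1 H hz, deg_add, deg_div hK.1] at h3
    omega
  | q + 1, s, H, hli, hb => by
    classical
    obtain ⟨p⟩ := exists_place' hK
    obtain ⟨a₀, ha₀⟩ := hb.2 p
    let S := Submodule.span k (Set.range s)
    have hS : S ≤ L H := Submodule.span_le.mpr (by rintro _ ⟨a, rfl⟩; exact hb.1 a)
    haveI : FiniteDimensional k S := FiniteDimensional.span_of_finite k (Set.finite_range s)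
    let S' : Submodule k K := S ⊓ L (H - Finsupp.single p 1)
    haveI : FiniteDimensional k S' := Submodule.finiteDimensional_of_le inf_le_left
    have hrS : finrank k S = q + 3 := by simpa [S] using finrank_span_eq_card hli
    have hlt : S' < S := lt_of_le_not_ge inf_le_left fun h => ha₀ (h (Submodule.subset_span ⟨a₀, rfl⟩)).2
    have h1 := Submodule.finrank_lt_finrank_of_lt hlt
    have hle : H - Finsupp.single p 1 ≤ H := sub_le_self _ (Finsupp.single_nonneg.2 zero_le_one)
    have hge : q + 2 ≤ finrank k S' := by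
      haveI := (finite_quo_L hK.1 _ H hle).1
      let φ : S →ₗ[k] quo (L (H - Finsupp.single p 1)) (L H) := (Submodule.mkQ _).comp (Submodule.inclusion hS)
      have h2 := LinearMap.finrank_range_add_finrank_ker φ
      have h3 := Submodule.finrank_le (LinearMap.range φ)
      have h4 := (finite_quo_L hK.1 _ H hle).2
      rw [deg_sub, sub_sub_cancel, deg_single, deg_eq_one hK p] at h4
      have h5 : finrank k (LinearMap.ker φ) ≤ finrank k S' :=
        LinearMap.finrank_le_finrank_of_injective (f := LinearMap.codRestrict S' (S.subtype.comp (LinearMap.ker φ).subtype)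
          fun x => ⟨x.1.2, (Submodule.Quotient.mk_eq_zero (Submodule.comap (L H).subtype (L (H - Finsupp.single p 1)))).mp x.2⟩) fun a b h =>
            Subtype.ext (Subtype.ext (congrArg (fun z : S' => (z : K)) h))
      push_cast at h4
      omega
    let b := Module.finBasisOfFinrankEq k S' (show finrank k S' = q + 2 by omega)
    let t' : Fin (q + 2) → K := fun a => (b a : K)
    have hli' : LinearIndependent k t' := b.linearIndependent.map' S'.subtype (Submodule.ker_subtype _)
    have ht' : ∀ a, t' a ≠ 0 := fun a => hli'.ne_zero a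
    let H' : Divisor k K := Finset.univ.sup' Finset.univ_nonempty fun a : Fin (q + 2) => -FunFld.div k (t' a)
    have hH'apply : ∀ P, H' P = Finset.univ.sup' Finset.univ_nonempty fun a : Fin (q + 2) => -P.ord (t' a) := fun P => by
      rw [Finset.apply_sup'_eq_sup'_comp Finset.univ_nonempty (fun D : Divisor k K => D P) (fun D E => Finsupp.sup_apply D E P)]
      simp [Function.comp_def, div_apply hK.1]
    have hbH' : BPF t' H' := by
      refine ⟨fun a => (mem_L_iff (ht' a)).mpr fun P => ?_, fun P => ?_⟩
      · rw [hH'apply]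
        have := Finset.le_sup' (fun a : Fin (q + 2) => -P.ord (t' a)) (Finset.mem_univ a)
        omega
      · obtain ⟨a, -, ha⟩ := Finset.exists_mem_eq_sup' Finset.univ_nonempty (fun a : Fin (q + 2) => -P.ord (t' a))
        refine ⟨a, fun h => ?_⟩
        have := (mem_L_iff (ht' a)).mp h P
        rw [Finsupp.sub_apply, Finsupp.single_eq_same, hH'apply, ha] at this
        omega
    have hH'le : H' ≤ H - Finsupp.single p 1 := fun P => by
      rw [hH'apply]
      refine Finset.sup'_le _ _ fun a _ => ?_
      have := (mem_L_iff (ht' a)).mp (b a).2.2 P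
      omega
    obtain ⟨T, hT, hTspan⟩ := exists_tower t' H' hli' hbH'
    have hspan : Submodule.span k (Set.range T) = S' := by
      rw [hTspan, show Set.range t' = S'.subtype '' Set.range b from Set.range_comp _ _, Submodule.span_image,
        b.span_eq, Submodule.map_top, Submodule.range_subtype]
    have heq : Submodule.span k (Set.range (Fin.snoc T (s a₀) : Fin (q + 3) → K)) = S := by
      rw [Fin.range_snoc, Submodule.span_insert, hspan]
      have hle' : Submodule.span k {s a₀} ⊔ S' ≤ S :=
        sup_le ((Submodule.span_singleton_le_iff_mem _ _).mpr (Submodule.subset_span ⟨a₀, rfl⟩)) inf_le_left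
      haveI : FiniteDimensional k ↥(Submodule.span k {s a₀} ⊔ S') := Submodule.finiteDimensional_of_le hle'
      refine Submodule.eq_of_le_of_finrank_le hle' ?_
      have hlt' : S' < Submodule.span k {s a₀} ⊔ S' := lt_of_le_not_ge le_sup_right fun h =>
        ha₀ (h (Submodule.mem_sup_left (Submodule.mem_span_singleton_self _))).2
      have := Submodule.finrank_lt_finrank_of_lt hlt'
      omega
    refine ⟨Fin.snoc T (s a₀), ?_, heq⟩
    refine .step q _ H (H - H') ⟨fun a => hS (heq ▸ Submodule.subset_span ⟨a, rfl⟩), fun P => ?_⟩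
      (sub_nonneg.mpr (hH'le.trans hle)) ?_ ?_
    · obtain ⟨a, ha⟩ := hb.2 P
      by_contra hc
      push Not at hc
      refine ha ((?_ : S ≤ L (H - Finsupp.single P 1)) (Submodule.subset_span ⟨a, rfl⟩))
      rw [← heq, Submodule.span_le]
      rintro _ ⟨c, rfl⟩
      exact hc c
    · have h2 : 0 ≤ H - H' - Finsupp.single p 1 := by rw [sub_right_comm]; exact sub_nonneg.mpr hH'le
      have := deg_nonneg h2
      rw [deg_sub, deg_single, deg_eq_one hK p] at this
      push_cast at this
      omega
    · rw [Fin.init_snoc, sub_sub_cancel]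
      exact hT

include hK hC in
/-- A divisor of given degree that is nonspecial after adding finitely many given divisors. -/
theorem exists_NS (Λ : Finset (Divisor k K)) (a : ℤ) (h : ∀ E ∈ Λ, (genus k K : ℤ) - 1 ≤ a + E.deg) :
    ∃ D : Divisor k K, D.deg = a ∧ ∀ E ∈ Λ, NS C (D + E) := by
  classical
  haveI := infinite_places hK
  obtain ⟨Q⟩ := exists_place' hK
  obtain ⟨M, hM0, hM⟩ : ∃ M : ℤ, 0 ≤ a + M ∧ ∀ E ∈ Λ, E.deg + 1 ≤ M :=
    ⟨(∑ E ∈ Λ, E.deg.natAbs : ℕ) + a.natAbs + 1, by omega, fun E hE => by
      have := Finset.single_le_sum (f := fun E : Divisor k K => E.deg.natAbs) (fun _ _ => Nat.zero_le _) hE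
      omega⟩
  have key : ∀ n : ℕ, ∃ D : Divisor k K, D.deg = -M + n ∧
      ∀ E ∈ Λ, (ell (C - (D + E)) : ℤ) ≤ max ((genus k K : ℤ) - 1 + M - E.deg - n) 0 := by
    intro n
    induction n with
    | zero =>
      refine ⟨Finsupp.single Q (-M), by rw [deg_single, deg_eq_one hK Q]; simp, fun E hE => ?_⟩
      have hd : (C - (Finsupp.single Q (-M) + E)).deg = 2 * (genus k K : ℤ) - 2 + M - E.deg := by
        rw [deg_sub, deg_add, deg_single, deg_eq_one hK Q, (canonical_ell_deg hK hC).2]; push_cast; ring
      have hEM := hM E hE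
      have hg : 2 * (genus k K : ℤ) - 1 ≤ (C - (Finsupp.single Q (-M) + E)).deg := by omega
      rw [ell_eq_of_deg_ge hK hg, hd]
      push_cast
      omega
    | succ n ih =>
      obtain ⟨D, hD, hl⟩ := ih
      have hz : ∀ E : Divisor k K, ∃ F : Finset (Place k K), ∀ P ∉ F, 0 < ell (C - (D + E)) →
          ell (C - (D + E) - Finsupp.single P 1) < ell (C - (D + E)) := by
        intro E
        rcases Nat.eq_zero_or_pos (ell (C - (D + E))) with e | e
        · exact ⟨∅, fun P _ h => absurd h (by omega)⟩
        obtain ⟨z, hz, hzp⟩ := exists_effective_of_ell_pos hK.1 e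
        refine ⟨(C - (D + E) + FunFld.div k z).support, fun P hP _ => ?_⟩
        rw [Finsupp.notMem_support_iff, Finsupp.add_apply, div_apply hK.1] at hP
        haveI := finiteDimensional_L hK.1 (C - (D + E))
        refine Submodule.finrank_lt_finrank_of_lt (lt_of_le_not_ge
          (L_mono (sub_le_self _ (Finsupp.single_nonneg.2 zero_le_one))) fun hle => ?_)
        have hmem : z ∈ L (C - (D + E)) := (mem_L_iff hz).2 fun P' => by
          have := hzp P'
          rw [Finsupp.zero_apply, Finsupp.add_apply, div_apply hK.1] at this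
          omega
        have h3 := (mem_L_iff hz).1 (hle hmem) P
        rw [Finsupp.sub_apply, Finsupp.single_eq_same] at h3
        omega
      choose F hF using hz
      obtain ⟨P, hP⟩ := Infinite.exists_notMem_finset (Λ.biUnion F)
      refine ⟨D + Finsupp.single P 1, by rw [deg_add, deg_single, hD, deg_eq_one hK P]; push_cast; ring, fun E hE => ?_⟩
      rw [show C - (D + Finsupp.single P 1 + E) = C - (D + E) - Finsupp.single P 1 by abel]
      have h1 := hl E hE
      rcases Nat.eq_zero_or_pos (ell (C - (D + E))) with e | e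
      · have := ell_mono hK.1 (sub_le_self (C - (D + E)) (Finsupp.single_nonneg.2 (zero_le_one (α := ℤ)) : (0 : Divisor k K) ≤ Finsupp.single P 1))
        omega
      · have := hF E P (fun hc => hP (Finset.mem_biUnion.mpr ⟨E, hE, hc⟩)) e
        push_cast
        omega
  obtain ⟨D, hD, hl⟩ := key (a + M).toNat
  rw [Int.toNat_of_nonneg hM0] at hD hl
  refine ⟨D, by omega, fun E hE => ?_⟩
  have := hl E hE
  have := h E hE
  show ell _ = 0
  omega

end GLPLib
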